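import Cfsg.Agent.ThreeTrans.OrthCohom

/-!
The elliptic quadratic space of dimension six over the field with two elements, coded by six bits.
Bit 0 is a singular vector `e`, bit 2 its partner; bits 1, 3, 4, 5 span the orthogonal complement.
-/

set_option autoImplicit false

open Cfsg.Agent.ThreeTrans.OrthCohom Cfsg.Agent.Classical.Quad QuadraticMap

namespace Cfsg.Agent.SuzType

/-- The space. -/
abbrev V : Type := (Fin 2 ⊕ Fin 2) ⊕ Fin 2 → ZMod 2

/-- Decoding. -/
abbrev dc (i : ℕ) : V := dec (idxM 2) i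

/-- The quadratic form on codes. -/
def qn (i : ℕ) : Bool :=
  ((i.testBit 0 && i.testBit 2) != (i.testBit 1 && i.testBit 3)) !=
    ((i.testBit 4 != (i.testBit 4 && i.testBit 5)) != i.testBit 5)

/-- The polar form on codes. -/
def Bn (i j : ℕ) : Bool :=
  (((i.testBit 0 && j.testBit 2) != (i.testBit 2 && j.testBit 0)) !=
    ((i.testBit 1 && j.testBit 3) != (i.testBit 3 && j.testBit 1))) !=
    ((i.testBit 4 && j.testBit 5) != (i.testBit 5 && j.testBit 4))

/-- Booleans as scalars. -/
def bz (b : Bool) : ZMod 2 := if b then 1 else 0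

theorem bz_inj : ∀ a b : Bool, bz a = bz b → a = b := by decide

theorem bz_eq_one : ∀ a : Bool, bz a = 1 ↔ a = true := by decide

theorem bz_eq_zero : ∀ a : Bool, bz a = 0 ↔ a = false := by decide

theorem qM_dc' : ∀ i : Fin 64, Cfsg.quadFormMinus 2 (ZMod 2) 1 1 (dc i.val) = bz (qn i.val) := by
  decide +kernel

theorem dc_add' : ∀ i j : Fin 64, dc i.val + dc j.val = dc (i.val ^^^ j.val) := by decide +kernel

theorem dc_inj' : ∀ i j : Fin 64, dc i.val = dc j.val → i = j := by decide +kernel

theorem dc_surj : ∀ v : V, ∃ i : Fin 64, dc i.val = v := by decide +kernel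

theorem qn_xor : ∀ i j : Fin 64, ((qn (i.val ^^^ j.val) != qn i.val) != qn j.val) = Bn i.val j.val := by
  decide +kernel

theorem qM_dc (i : Fin 64) : qM 2 (dc i.val) = bz (qn i.val) := by rw [qM_coe]; exact qM_dc' i

theorem bz_xor : ∀ a b c : Bool, bz ((a != b) != c) = bz a - bz b - bz c := by decide

theorem polar_dc (i j : Fin 64) : polar (qM 2) (dc i.val) (dc j.val) = bz (Bn i.val j.val) := by
  have hlt : i.val ^^^ j.val < 64 := Nat.xor_lt_two_pow (n := 6) i.isLt j.isLt
  have h := qM_dc ⟨i.val ^^^ j.val, hlt⟩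
  rw [← qn_xor i j, bz_xor, ← qM_dc i, ← qM_dc j, ← h, polar, dc_add' i j]

theorem dc_zero : dc 0 = 0 := by decide +kernel

/-- The product of the reflections in `a` and in `b`, on codes. -/
def g2n (a b v : ℕ) : ℕ :=
  let u := if Bn v b then v ^^^ b else v
  if Bn u a then u ^^^ a else u

/-- The Siegel map of `w`, on codes. -/
def sgn (w v : ℕ) : ℕ :=
  (v ^^^ (if Bn v w then 1 else 0)) ^^^ (if Bn v 1 then w ^^^ (if qn w then 1 else 0) else 0)

/-! ### Finite facts -/

theorem trans_e : ∀ v : Fin 64, v.val ≠ 0 → qn v.val = false →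
    ∃ a : Fin 64, qn a.val = true ∧ ∃ b : Fin 64, qn b.val = true ∧ g2n a.val b.val v.val = 1 := by
  decide +kernel

theorem stab_move : ∀ v : Fin 64, qn v.val = false → Bn v.val 1 = false → v.val ≠ 0 → v.val ≠ 1 →
    ∃ a : Fin 64, (qn a.val = true ∧ Bn a.val 1 = false) ∧ ∃ b : Fin 64,
      (qn b.val = true ∧ Bn b.val 1 = false) ∧ Bn (g2n a.val b.val v.val) v.val = true := by
  decide +kernel

theorem stab_orbit : ∀ v : Fin 64, Bn v.val 1 = false → v.val ≠ 0 → v.val ≠ 1 →
    ∃ a : Fin 64, (qn a.val = true ∧ Bn a.val 1 = false) ∧ ∃ b : Fin 64,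
      (qn b.val = true ∧ Bn b.val 1 = false) ∧
      (g2n a.val b.val v.val = (if qn v.val then 16 else 2) ∨
        g2n a.val b.val v.val = (if qn v.val then 16 else 2) + 1) := by
  decide +kernel

theorem functional : ∀ s₁ s₃ s₄ s₅ : Bool, ∃ w : Fin 64, Bn w.val 1 = false ∧
    Bn 2 w.val = s₁ ∧ Bn 8 w.val = s₃ ∧ Bn 16 w.val = s₄ ∧ Bn 32 w.val = s₅ := by decide +kernel

theorem sieg_unique : ∀ w : Fin 64, Bn w.val 1 = false → ∀ t : Fin 64, qn t.val = false →
    Bn 1 t.val = true → (∀ k ∈ [2, 8, 16, 32], Bn t.val (sgn w.val k) = Bn 4 k) →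
    t.val = sgn w.val 4 := by decide +kernel

theorem sgn_shift : ∀ w : Fin 64, ∀ v : Fin 64, Bn w.val 1 = false →
    sgn (w.val ^^^ 1) v.val = sgn w.val v.val := by decide +kernel

/-- The fixed space of the Siegel map of a singular vector. -/
def C1 (v : ℕ) : Bool := !(Bn v 1) && !(Bn v 2)

/-- The fixed space of the Siegel map of a non-singular vector. -/
def C2 (v : ℕ) : Bool := !(Bn v 1) && !(Bn v 16)

theorem fix1 : ∀ v : Fin 64, sgn 2 v.val = v.val ↔ C1 v.val = true := by decide +kernel

theorem fix2 : ∀ v : Fin 64, sgn 16 v.val = v.val ↔ C2 v.val = true := by decide +kernel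

theorem gen1 : ∀ v : Fin 64, C1 v.val = true → ∃ v' : Fin 64, C1 v'.val = true ∧
    v.val ^^^ (g2n 16 32 v'.val ^^^ v'.val) ∈ [0, 1, 2, 3] := by decide +kernel

theorem fix1_sing : ∀ v : Fin 64, C1 v.val = true → qn v.val = false → v.val ∈ [0, 1, 2, 3] := by
  decide +kernel

/-- A functional on the fixed space of the second type. -/
def lam (a b : Bool) (v : ℕ) : Bool :=
  (v.testBit 4 != (a && v.testBit 1)) != (b && v.testBit 3)

theorem cycle2 : ∀ a b : Bool, ∀ c : Fin 64, C2 c.val = true →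
    (∀ v : Fin 64, C2 v.val = true → lam a b v.val = qn v.val →
      lam a b (c.val ^^^ g2n 10 18 v.val) = qn (c.val ^^^ g2n 10 18 v.val)) →
    ∀ v : Fin 64, C2 v.val = true → lam a b v.val = qn v.val →
      v.val ∈ [0, 1, 16, 17] ∨ v.val ^^^ c.val ∈ [0, 1, 16, 17] ∨
        v.val ^^^ (c.val ^^^ g2n 10 18 c.val) ∈ [0, 1, 16, 17] := by decide +kernel

theorem lam_noncentral : ∀ a b : Bool, ∀ k : Fin 64, C2 k.val = true → lam a b k.val = false →
    (∀ d : Fin 64, C2 d.val = true → lam a b d.val = false → Bn k.val d.val = false) →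
    k.val = 0 ∨ k.val = 1 := by decide +kernel

/-- The three generators of the kernel of `lam`. -/
def lamBasis (a b : Bool) : List ℕ := [1, if a then 18 else 2, if b then 24 else 8]

/-- Possible images of the three further basis vectors under an isometry fixing the kernel and
commuting with the Siegel map of the second type. -/
def cands (a b : Bool) : List (ℕ × ℕ × ℕ) :=
  let ok (k t : ℕ) : Bool := (qn t == qn k) && (lamBasis a b).all fun l => Bn t l == Bn k l
  let comm (t x : ℕ) : Bool := sgn 16 x == x ^^^ (t ^^^ 1)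
  let l16 := (List.range 64).filter (ok 16)
  let l32 := (List.range 64).filter (ok 32)
  let l4 := (List.range 64).filter (ok 4)
  (l16.flatMap fun t => (l32.filter fun u => Bn t u == Bn 16 32).flatMap fun u =>
    ((l4.filter fun x => (Bn t x == Bn 16 4) && ((Bn u x == Bn 32 4) &&
      ((sgn 16 u == u ^^^ 1) && comm t x))).map fun x => (t, u, x)))

theorem cands_length : ∀ a b : Bool, (cands a b).length ≤ 8 := by decide +kernel

theorem exists_noncomm2 : ∃ v v' : Fin 64,
    C2 v.val = true ∧ C2 v'.val = true ∧ Bn v.val v'.val = true := by decide +kernel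

theorem lift2 : sgn 16 32 ^^^ 32 = 1 := by decide +kernel

theorem sgn16_four : sgn 16 4 = 21 := by decide +kernel

end Cfsg.Agent.SuzType
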