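import Cfsg.Agent.SuzType.Invol
import Cfsg.Agent.Fg24.ExtraTwo
import Cfsg.Agent.LargeExtra.OutExtra
import Cfsg.Agent.Classical.QuadStd
import Cfsg.Agent.Classical.OrthMat
import Cfsg.Agent.Layer.PConstraint
import Cfsg.Agent.ThreeTrans.OMinusSix

/-!
The setting follows from the hypothesis on the centraliser of the involution.
-/

set_option autoImplicit false

open Cfsg Cfsg.Agent.ThreeTrans.OrthCohom Cfsg.Agent.Classical.Quad QuadraticMap Cfsg.Agent.LargeExtra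

namespace Cfsg.Agent.SuzType

theorem card_iso_minus :
    Nat.card ↥(isometryGroup (ZMod 2) (quadFormMinus 2 (ZMod 2) 1 1)) = 51840 := by
  rw [card_isometryGroup_eq (minusCoord 2) (minusCoord_map 1 1 2),
    card_oG_minus ThreeTrans.minusSix_anisotropic (ZMod.card 2) 2]
  norm_num [Finset.prod_range_succ]

theorem card_iso_plus :
    Nat.card ↥(isometryGroup (ZMod 2) (quadFormPlus 3 (ZMod 2))) = 40320 := by
  rw [card_isometryGroup_eq (plusCoord 3) (plusCoord_map 3), card_oG_plus (ZMod.card 2) 2]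
  norm_num [Finset.prod_range_succ]

theorem omega_facts :
    (Omega (ZMod 2) (quadFormMinus 2 (ZMod 2) 1 1)).index = 2 ∧
    Nat.card ↥(Omega (ZMod 2) (quadFormMinus 2 (ZMod 2) 1 1)) = 25920 ∧
    ∀ g : ↥(isometryGroup (ZMod 2) ⇑(qM 2)), g ∈ Omega (ZMod 2) ⇑(qM 2) ↔ dsign (oEquiv (qM 2) g) = 1 := by
  obtain ⟨hker, hidx⟩ := commutator_eq_ker_dickson (Q := qM 2) nondegM2 (Or.inr (by simp)) (by simp)
  have hi : (Omega (ZMod 2) ⇑(qM 2)).index = 2 := by rw [index_omega]; exact hidx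
  rw [qM_coe] at hi
  refine ⟨hi, ?_, fun g => ?_⟩
  · have h := (Omega (ZMod 2) (quadFormMinus 2 (ZMod 2) 1 1)).card_mul_index
    rw [hi, card_iso_minus] at h
    omega
  · rw [mem_omega_iff, hker, MonoidHom.mem_ker]
    rfl

variable {G : Type*} [Group G] [Finite G]

/-- The centraliser of an element. -/
abbrev Cz (z : G) : Subgroup G := Subgroup.centralizer ({z} : Set G)

/-- The setting from the hypothesis. -/
theorem exists_suz (z : G) (hz : orderOf z = 2) (Q : Subgroup (Subgroup.centralizer ({z} : Set G)))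
    [Q.Normal] (hF : generalizedFittingSubgroup (Subgroup.centralizer ({z} : Set G)) = Q)
    (hQ : IsExtraspecial 2 Q) (hcard : Nat.card Q = 2 ^ 7)
    (e : (Subgroup.centralizer ({z} : Set G)) ⧸ Q ≃* Omega (ZMod 2) (quadFormMinus 2 (ZMod 2) 1 1))
    (hnwc : ∃ g : G, (∃ hq : g * z * g⁻¹ ∈ Subgroup.centralizer ({z} : Set G),
      (⟨g * z * g⁻¹, hq⟩ : Subgroup.centralizer ({z} : Set G)) ∈ Q) ∧ g * z * g⁻¹ ≠ z) :
    Nonempty (Suz z) := by
  classical
  have : Fact (Nat.Prime 2) := ⟨Nat.prime_two⟩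
  have hO : pCore 2 ↥(Cz z) = Q := by
    refine le_antisymm ?_ ?_
    · rw [← hF]
      exact (Core.pCore_le_fittingSubgroup 2).trans le_sup_right
    · exact Core.le_pCore (IsPGroup.of_card hcard)
  have hoc : oc z = Q.map (Cz z).subtype := by rw [oc, hO]
  have hes : IsExtraspecial 2 ↥(oc z) := by
    rw [hoc]
    exact LargeExtra.extraspecial_congr (Q.equivMapOfInjective _ (Cz z).subtype_injective) hQ
  have hcentC : ∀ c : ↥(Cz z), (∀ q ∈ Q, q * c = c * q) → c ∈ Q := fun c hc => by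
    rw [← hF]
    refine Layer.centralizer_generalizedFitting_le ?_
    rw [hF]
    exact Subgroup.mem_centralizer_iff.2 hc
  have hzC : z ∈ (Cz z) := Subgroup.mem_centralizer_singleton_iff.2 rfl
  set zC : ↥(Cz z) := ⟨z, hzC⟩
  have hzQ : zC ∈ Q := hcentC zC fun q _ => Subtype.ext (Subgroup.mem_centralizer_singleton_iff.1 q.2)
  have hset : Setting z := by
    refine ⟨hz, hes, fun c hc => ?_⟩
    rw [hoc] at hc ⊢
    have hcC : c ∈ (Cz z) := Subgroup.mem_centralizer_singleton_iff.2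
      (Subgroup.mem_centralizer_iff.1 hc z ⟨zC, hzQ, rfl⟩).symm
    exact ⟨⟨c, hcC⟩, hcentC _ fun q hq => Subtype.ext (Subgroup.mem_centralizer_iff.1 hc _ ⟨q, hq, rfl⟩), rfl⟩
  have hcard' : Nat.card ↥(oc z) = 2 ^ 7 := by
    rw [hoc, Nat.card_congr (Q.equivMapOfInjective _ (Cz z).subtype_injective).toEquiv.symm, hcard]
  obtain ⟨m, c, ⟨ε⟩⟩ := Fg24.ExtraTwo.exists_equiv_heis hQ
  obtain rfl : m = 2 := by
    have h := Nat.card_congr ε.toEquiv
    rw [hcard, Heis.card] at h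
    have := Nat.pow_right_injective le_rfl h
    omega
  obtain ⟨homega, hcardΩ, hmem⟩ := omega_facts
  have hidx : Nat.card (↥(Cz z) ⧸ Q) = 25920 := by rw [Nat.card_congr e.toEquiv, hcardΩ]
  let cg : ↥(Cz z) →* MulAut (Heis 2 c) := ((MulAut.congr ε).toMonoidHom).comp MulAut.conjNormal
  have hgen : ∀ {ι : Type} [Fintype ι] [DecidableEq ι] (T : (ι → ZMod 2) ≃ₗ[ZMod 2] HV 2)
      {q : (ι → ZMod 2) → ZMod 2} (hq : ∀ x, q x = hbeta c (T x) (T x)),
      ((Heis.isoHom T hq).comp cg).ker = Q := by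
    intro ι _ _ T q hq
    ext d
    rw [MonoidHom.mem_ker, MonoidHom.comp_apply, ← MonoidHom.mem_ker, Heis.isoHom_ker]
    constructor
    · rintro ⟨h, hh⟩
      have hx : ∀ r : ↥Q, ((ε.symm h : ↥Q) : ↥(Cz z))⁻¹ * d * r = r * (((ε.symm h : ↥Q) : ↥(Cz z))⁻¹ * d) := by
        intro r
        have h1 := congrArg (fun α : MulAut (Heis 2 c) => ε.symm (α (ε r))) hh
        simp [cg] at h1
        have h2 : ((ε.symm h : ↥Q) : ↥(Cz z)) * r * ((ε.symm h : ↥Q) : ↥(Cz z))⁻¹ = d * r * d⁻¹ := by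
          have h3 := congrArg Subtype.val h1
          rwa [MulAut.conjNormal_apply, Subgroup.coe_mul, Subgroup.coe_mul, Subgroup.coe_inv] at h3
        calc ((ε.symm h : ↥Q) : ↥(Cz z))⁻¹ * d * r
            = ((ε.symm h : ↥Q) : ↥(Cz z))⁻¹ * (d * r * d⁻¹) * d := by group
          _ = r * (((ε.symm h : ↥Q) : ↥(Cz z))⁻¹ * d) := by rw [← h2]; group
      have hm := hcentC _ fun r hr => (hx ⟨r, hr⟩).symm
      have := mul_mem (ε.symm h).2 hm
      rwa [mul_inv_cancel_left] at this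
    · intro hd
      refine ⟨ε ⟨d, hd⟩, MulEquiv.ext fun x => ?_⟩
      obtain ⟨r, rfl⟩ := ε.surjective x
      simp [cg, ← map_mul, ← map_inv]
      congr 1
  have hc1 : c = 1 := by
    rcases Fg24.ExtraTwo.two_cases c with rfl | rfl
    · exfalso
      have hq : ∀ x, quadFormPlus (2 + 1) (ZMod 2) x = hbeta 0 (Heis.plusCoordH 2 x) (Heis.plusCoordH 2 x) :=
        Heis.plusCoordH_form 2
      have h := ((Heis.isoHom (Heis.plusCoordH 2) hq).comp cg).range.card_subgroup_dvd_card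
      rw [← Subgroup.index_ker, hgen, Subgroup.index_eq_card, hidx, card_iso_plus] at h
      norm_num at h
    · rfl
  subst hc1
  let T := Heis.minusCoordH 2
  have hq : ∀ x, quadFormMinus 2 (ZMod 2) 1 1 x = hbeta 1 (T x) (T x) := Heis.minusCoordH_form 2
  have hq' : ∀ x, ⇑(qM 2) x = hbeta 1 (T x) (T x) := fun x => by rw [qM_coe]; exact hq x
  let ρ : ↥(Cz z) →* ↥(isometryGroup (ZMod 2) ⇑(qM 2)) := (Heis.isoHom T hq').comp cg
  have hker : ρ.ker = Q := hgen T hq'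
  have hrange : ρ.range = Omega (ZMod 2) ⇑(qM 2) := by
    have h1 : ρ.range.index = 2 := by
      have h2 := ρ.range.card_mul_index
      rw [← Subgroup.index_ker, hker, Subgroup.index_eq_card, hidx] at h2
      have h3 : Nat.card ↥(isometryGroup (ZMod 2) ⇑(qM 2)) = 51840 := by rw [qM_coe]; exact card_iso_minus
      rw [h3] at h2
      omega
    have hn : ρ.range.Normal := Subgroup.normal_of_index_eq_two h1
    have hle : Omega (ZMod 2) ⇑(qM 2) ≤ ρ.range := by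
      refine (Subgroup.Normal.quotient_commutative_iff_commutator_le).1 ?_
      have : IsCyclic (↥(isometryGroup (ZMod 2) ⇑(qM 2)) ⧸ ρ.range) :=
        isCyclic_of_prime_card (p := 2) (by rw [← Subgroup.index_eq_card, h1])
      exact ⟨⟨IsCyclic.commGroup.mul_comm⟩⟩
    refine (Subgroup.eq_of_le_of_card_ge hle ?_).symm
    rw [← Subgroup.index_ker, hker, Subgroup.index_eq_card, hidx, qM_coe, hcardΩ]
  have hCmem : ∀ d : G, d * z = z * d → d ∈ (Cz z) := fun d hd => Subgroup.mem_centralizer_singleton_iff.2 hd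
  have hocQ : ∀ a : G, a ∈ oc z ↔ ∃ h : a ∈ (Cz z), (⟨a, h⟩ : ↥(Cz z)) ∈ Q := fun a => by
    rw [hoc]
    constructor
    · rintro ⟨b, hb, rfl⟩; exact ⟨b.2, hb⟩
    · rintro ⟨h, hb⟩; exact ⟨_, hb, rfl⟩
  let pr : G → V := fun a => if h : ∃ h : a ∈ (Cz z), (⟨a, h⟩ : ↥(Cz z)) ∈ Q then
    T.symm (ε ⟨⟨a, h.1⟩, h.2⟩).v else 0
  have hpr : ∀ (a : ↥(Cz z)) (ha : a ∈ Q), pr (a : G) = T.symm (ε ⟨a, ha⟩).v := fun a ha => by
    simp only [pr]; rw [dif_pos ⟨a.2, ha⟩]
  let act : G → O := fun d => if h : d ∈ (Cz z) then oEquiv (qM 2) (ρ ⟨d, h⟩) else 1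
  have hzv : (ε ⟨zC, hzQ⟩).v = 0 := LargeExtra.hB_nondeg fun w => by
    refine (Heis.comm_iff _ ⟨w, 0⟩).1 ?_
    obtain ⟨y, hy⟩ := ε.surjective ⟨w, 0⟩
    rw [← hy, ← map_mul, ← map_mul]
    congr 1
    exact Subtype.ext (Subtype.ext (Subgroup.mem_centralizer_singleton_iff.1 (y : ↥(Cz z)).2).symm)
  have hzne : (ε ⟨zC, hzQ⟩) ≠ 1 := fun h => by
    have h' : z = 1 := congrArg (fun x : ↥Q => ((x : ↥(Cz z)) : G)) (ε.map_eq_one_iff.1 h)
    rw [h', orderOf_one] at hz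
    omega
  have hzs : (ε ⟨zC, hzQ⟩).s = 1 := (zmod_cases _).resolve_left
    fun h => hzne (Heis.ext hzv h)
  have hcentral : ∀ x : ↥Q, (ε x).v = 0 → (x : G) = zp z (ε x).s := fun x hx => by
    rcases zmod_cases (ε x).s with h | h <;> rw [h]
    · rw [zp_zero]
      exact congrArg (fun x : ↥Q => ((x : ↥(Cz z)) : G))
        (ε.map_eq_one_iff.1 (Heis.ext hx h))
    · rw [zp_one]
      exact congrArg (fun x : ↥Q => ((x : ↥(Cz z)) : G))
        (ε.injective (Heis.ext (hx.trans hzv.symm) (h.trans hzs.symm)) : x = ⟨zC, hzQ⟩)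
  exact ⟨{
    sett := hset
    card := hcard'
    pr := pr
    pr_mul := fun a ha b hb => by
      obtain ⟨h1, h2⟩ := (hocQ a).1 ha
      obtain ⟨h3, h4⟩ := (hocQ b).1 hb
      rw [show a * b = ((⟨a, h1⟩ * ⟨b, h3⟩ : ↥(Cz z)) : G) from rfl, hpr _ (mul_mem h2 h4),
        show pr a = _ from hpr ⟨a, h1⟩ h2, show pr b = _ from hpr ⟨b, h3⟩ h4, ← map_add]
      exact congrArg (fun x : Heis 2 1 => T.symm x.v) (map_mul ε ⟨_, h2⟩ ⟨_, h4⟩)
    pr_ker := fun a ha h => by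
      obtain ⟨h1, h2⟩ := (hocQ a).1 ha
      rw [show pr a = _ from hpr ⟨a, h1⟩ h2, T.symm.map_eq_zero_iff] at h
      have := hcentral ⟨_, h2⟩ h
      rcases zmod_cases (ε ⟨⟨a, h1⟩, h2⟩).s with e | e <;> rw [e] at this
      · exact Or.inl (this.trans (zp_zero z))
      · exact Or.inr (this.trans (zp_one z))
    pr_z := by rw [show pr z = _ from hpr zC hzQ, hzv, map_zero]
    pr_surj := fun v => by
      obtain ⟨x, hx⟩ := ε.surjective ⟨T v, 0⟩
      refine ⟨((x : ↥(Cz z)) : G), (hocQ _).2 ⟨(x : ↥(Cz z)).2, x.2⟩, ?_⟩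
      rw [hpr (x : ↥(Cz z)) x.2, show ε ⟨(x : ↥(Cz z)), x.2⟩ = ε x from rfl, hx, LinearEquiv.symm_apply_apply]
    pr_sq := fun a ha => by
      obtain ⟨h1, h2⟩ := (hocQ a).1 ha
      have hs : ε (⟨⟨a, h1⟩, h2⟩ * ⟨⟨a, h1⟩, h2⟩) =
          ⟨0, hbeta 1 (ε ⟨⟨a, h1⟩, h2⟩).v (ε ⟨⟨a, h1⟩, h2⟩).v⟩ := by rw [map_mul, Heis.sq_eq]
      have := hcentral _ (congrArg Heis.v hs)
      rw [hs] at this
      rw [show pr a = _ from hpr ⟨a, h1⟩ h2, hq', LinearEquiv.apply_symm_apply]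
      exact this
    act := act
    act_spec := fun d hd a ha => by
      obtain ⟨h1, h2⟩ := (hocQ a).1 ha
      have hdC := hCmem d hd
      rw [show d * a * d⁻¹ = ((⟨d, hdC⟩ * ⟨a, h1⟩ * ⟨d, hdC⟩⁻¹ : ↥(Cz z)) : G) from rfl,
        hpr _ (Subgroup.Normal.conj_mem inferInstance _ h2 _), show pr a = _ from hpr ⟨a, h1⟩ h2,
        show act d = _ from dif_pos hdC, oEquiv_apply]
      rw [show ρ ⟨d, hdC⟩ = Heis.isoHom T hq' (cg ⟨d, hdC⟩) from rfl, Heis.isoHom_mulVec,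
        Heis.coordMap_apply, LinearEquiv.apply_symm_apply, ← Heis.apply_v]
      congr 2
      simp only [cg, MonoidHom.comp_apply, MulEquiv.coe_toMonoidHom, MulAut.congr_apply,
        MulEquiv.trans_apply, MulEquiv.symm_apply_apply]
      exact congrArg ε (Subtype.ext rfl)
    act_even := fun d hd => by
      have hdC := hCmem d hd
      rw [show act d = _ from dif_pos hdC]
      exact (hmem _).1 (hrange ▸ ⟨_, rfl⟩)
    act_surj := fun g hg => by
      have hg' : (oEquiv (qM 2)).symm g ∈ ρ.range := by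
        rw [hrange, hmem, MulEquiv.apply_symm_apply]; exact hg
      obtain ⟨d, hd⟩ := hg'
      refine ⟨d, Subgroup.mem_centralizer_singleton_iff.1 d.2, ?_⟩
      rw [show act (d : G) = _ from dif_pos d.2, show (⟨(d : G), d.2⟩ : ↥(Cz z)) = d from rfl, hd,
        MulEquiv.apply_symm_apply]
    act_ker := fun d hd h => by
      have hdC := hCmem d hd
      rw [show act d = _ from dif_pos hdC, MulEquiv.map_eq_one_iff, ← MonoidHom.mem_ker, hker] at h
      exact (hocQ d).2 ⟨hdC, h⟩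
    nwc := by
      obtain ⟨g, ⟨hgC, hgQ⟩, hne⟩ := hnwc
      exact ⟨g, (hocQ _).2 ⟨hgC, hgQ⟩, hne⟩ }⟩

end Cfsg.Agent.SuzType
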