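import Cfsg.Agent.SuzType.Codes
import Cfsg.Agent.Classical.OrthSpinor

/-!
Isometries of the elliptic space of dimension six over the field with two elements in coordinates.
-/

set_option autoImplicit false

open Cfsg.Agent.ThreeTrans.OrthCohom Cfsg.Agent.Classical.Quad QuadraticMap Module

namespace Cfsg.Agent.SuzType

/-- The isometry group. -/
abbrev O : Type := ↥(oG (qM 2))

/-- The polar form. -/
noncomputable abbrev Bp (x y : V) : ZMod 2 := polar (qM 2) x y

theorem v_add_self (x : V) : x + x = 0 := funext fun i => (by decide : ∀ a : ZMod 2, a + a = 0) (x i)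

theorem v_sub_eq_add (x y : V) : x - y = x + y := by
  rw [sub_eq_iff_eq_add, add_assoc, v_add_self, add_zero]

theorem v_eq_of_add {x y : V} (h : x + y = 0) : x = y := by
  rw [← v_sub_eq_add] at h
  exact sub_eq_zero.1 h

/-- The code of a vector. -/
noncomputable def cd (x : V) : Fin 64 := (dc_surj x).choose

theorem dc_cd (x : V) : dc (cd x).val = x := (dc_surj x).choose_spec

theorem cd_dc (i : Fin 64) : cd (dc i.val) = i := dc_inj' _ _ (dc_cd _)

theorem dc_inj {i j : ℕ} (hi : i < 64) (hj : j < 64) (h : dc i = dc j) : i = j :=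
  congrArg Fin.val (dc_inj' ⟨i, hi⟩ ⟨j, hj⟩ h)

theorem xor_lt {i j : ℕ} (hi : i < 64) (hj : j < 64) : i ^^^ j < 64 :=
  Nat.xor_lt_two_pow (n := 6) hi hj

theorem dc_xor {i j : ℕ} (hi : i < 64) (hj : j < 64) : dc (i ^^^ j) = dc i + dc j :=
  (dc_add' ⟨i, hi⟩ ⟨j, hj⟩).symm

theorem Bp_dc {i j : ℕ} (hi : i < 64) (hj : j < 64) : Bp (dc i) (dc j) = bz (Bn i j) :=
  polar_dc ⟨i, hi⟩ ⟨j, hj⟩

theorem q_dc {i : ℕ} (hi : i < 64) : qM 2 (dc i) = bz (qn i) := qM_dc ⟨i, hi⟩

theorem g2n_lt {a b v : ℕ} (ha : a < 64) (hb : b < 64) (hv : v < 64) : g2n a b v < 64 := by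
  have h1 := xor_lt hv hb
  unfold g2n
  dsimp only
  split_ifs <;> first | exact xor_lt h1 ha | exact xor_lt hv ha | exact h1 | exact hv

theorem sgn_lt {w v : ℕ} (hw : w < 64) (hv : v < 64) : sgn w v < 64 := by
  unfold sgn
  refine xor_lt (xor_lt hv (by split_ifs <;> norm_num)) ?_
  split_ifs <;> first | exact xor_lt hw (by norm_num) | norm_num

theorem refl_dc {a : ℕ} (ha : a < 64) (hq : qn a = true) {v : ℕ} (hv : v < 64)
    (hne : qM 2 (dc a) ≠ 0) :
    (rO hne).1 (dc v) = dc (if Bn v a then v ^^^ a else v) := by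
  rw [rO_apply, show polar (qM 2) (dc v) (dc a) = bz (Bn v a) from Bp_dc hv ha, q_dc ha, hq]
  rcases Bool.dichotomy (Bn v a) with h | h <;> rw [h]
  · simp [bz]
  · simp [bz, v_sub_eq_add, dc_xor hv ha]

/-- A product of two reflections. -/
theorem exists_rr {a b : ℕ} (ha : a < 64) (hb : b < 64) (hqa : qn a = true) (hqb : qn b = true) :
    ∃ g : O, dsign g = 1 ∧ ∀ v, v < 64 → g.1 (dc v) = dc (g2n a b v) := by
  have hna : qM 2 (dc a) ≠ 0 := by rw [q_dc ha, hqa]; decide
  have hnb : qM 2 (dc b) ≠ 0 := by rw [q_dc hb, hqb]; decide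
  refine ⟨rO hna * rO hnb, ?_, fun v hv => ?_⟩
  · rw [dsign_mul_rO nondegM2, ← one_mul (rO hna), dsign_mul_rO nondegM2, dsign_one]
    decide
  · rw [oG_mul_apply, refl_dc hb hqb hv hnb, refl_dc ha hqa ?_ hna]
    · rfl
    · split_ifs
      exacts [xor_lt hv hb, hv]

theorem split_code : ∀ v : Fin 64, v.val = ((((v.val &&& 1) ^^^ (v.val &&& 2)) ^^^ (v.val &&& 4)) ^^^
    ((v.val &&& 8) ^^^ (v.val &&& 16))) ^^^ (v.val &&& 32) := by decide +kernel

theorem part_cases : ∀ v : Fin 64, ∀ k ∈ [1, 2, 4, 8, 16, 32], v.val &&& k = 0 ∨ v.val &&& k = k := by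
  decide +kernel

/-- A linear map given on the six unit vectors. -/
theorem lin_ext (g : O) (h : ℕ → ℕ) (hlt : ∀ v, v < 64 → h v < 64) (h0 : h 0 = 0)
    (hlin : ∀ v : Fin 64, h v.val = ((((h (v.val &&& 1)) ^^^ h (v.val &&& 2)) ^^^ h (v.val &&& 4)) ^^^
      (h (v.val &&& 8) ^^^ h (v.val &&& 16))) ^^^ h (v.val &&& 32))
    (hgen : ∀ k ∈ [1, 2, 4, 8, 16, 32], g.1 (dc k) = dc (h k)) :
    ∀ v, v < 64 → g.1 (dc v) = dc (h v) := by
  intro v hv
  have hp : ∀ k ∈ [1, 2, 4, 8, 16, 32], g.1 (dc (v &&& k)) = dc (h (v &&& k)) ∧ v &&& k < 64 := by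
    intro k hk
    refine ⟨?_, lt_of_le_of_lt Nat.and_le_left hv⟩
    rcases part_cases ⟨v, hv⟩ k hk with e | e
    · rw [show v &&& k = 0 from e, h0, dc_zero, map_zero]
    · rw [show v &&& k = k from e]
      exact hgen k hk
  obtain ⟨e1, l1⟩ := hp 1 (by simp)
  obtain ⟨e2, l2⟩ := hp 2 (by simp)
  obtain ⟨e4, l4⟩ := hp 4 (by simp)
  obtain ⟨e8, l8⟩ := hp 8 (by simp)
  obtain ⟨e16, l16⟩ := hp 16 (by simp)
  obtain ⟨e32, l32⟩ := hp 32 (by simp)
  have m1 := hlt _ l1
  have m2 := hlt _ l2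
  have m4 := hlt _ l4
  have m8 := hlt _ l8
  have m16 := hlt _ l16
  have m32 := hlt _ l32
  have hs := split_code ⟨v, hv⟩
  dsimp only at hs
  conv_lhs => rw [hs]
  rw [show h v = _ from hlin ⟨v, hv⟩]
  dsimp only
  rw [dc_xor (xor_lt (xor_lt (xor_lt l1 l2) l4) (xor_lt l8 l16)) l32,
    dc_xor (xor_lt (xor_lt l1 l2) l4) (xor_lt l8 l16), dc_xor (xor_lt l1 l2) l4, dc_xor l1 l2,
    dc_xor l8 l16, map_add, map_add, map_add, map_add, map_add, e1, e2, e4, e8, e16, e32,
    dc_xor (xor_lt (xor_lt (xor_lt m1 m2) m4) (xor_lt m8 m16)) m32,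
    dc_xor (xor_lt (xor_lt m1 m2) m4) (xor_lt m8 m16), dc_xor (xor_lt m1 m2) m4, dc_xor m1 m2,
    dc_xor m8 m16]

theorem sgn_lin : ∀ w : Fin 64, ∀ v : Fin 64, sgn w.val v.val =
    ((((sgn w.val (v.val &&& 1)) ^^^ sgn w.val (v.val &&& 2)) ^^^ sgn w.val (v.val &&& 4)) ^^^
      (sgn w.val (v.val &&& 8) ^^^ sgn w.val (v.val &&& 16))) ^^^ sgn w.val (v.val &&& 32) := by
  decide +kernel

theorem sgn_zero : ∀ w : Fin 64, sgn w.val 0 = 0 := by decide +kernel

theorem sgn_low : ∀ w : Fin 64, Bn w.val 1 = false → sgn w.val 1 = 1 ∧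
    ∀ k ∈ [2, 8, 16, 32], sgn w.val k = k ^^^ (if Bn k w.val then 1 else 0) := by decide +kernel

theorem bz_true {b : Bool} (h : bz b = 1) : b = true := (bz_eq_one b).1 h

theorem polar_g (g : O) (x y : V) : Bp (g.1 x) (g.1 y) = Bp x y := polar_oG g x y

/-- The isometries centralising the quotient `e⊥ / e` are the Siegel maps. -/
theorem exists_sgn (g : O) (he : g.1 (dc 1) = dc 1)
    (hN : ∀ x : V, Bp x (dc 1) = 0 → g.1 x + x = 0 ∨ g.1 x + x = dc 1) :
    ∃ w : Fin 64, Bn w.val 1 = false ∧ ∀ v, v < 64 → g.1 (dc v) = dc (sgn w.val v) := by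
  classical
  let s : ℕ → Bool := fun k => decide (g.1 (dc k) + dc k = dc 1)
  obtain ⟨w, hw, h2, h8, h16, h32⟩ := functional (s 2) (s 8) (s 16) (s 32)
  have hk : ∀ k ∈ [2, 8, 16, 32], g.1 (dc k) = dc (sgn w.val k) ∧ k < 64 := by
    intro k hk
    have hk64 : k < 64 := by revert k; decide
    have hperp : Bp (dc k) (dc 1) = 0 := by
      rw [Bp_dc hk64 (by norm_num), bz_eq_zero]
      revert k; decide
    have hB : Bn k w.val = s k := by
      simp only [List.mem_cons, List.not_mem_nil, or_false] at hk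
      rcases hk with rfl | rfl | rfl | rfl
      exacts [h2, h8, h16, h32]
    refine ⟨?_, hk64⟩
    rw [(sgn_low w hw).2 k hk, hB]
    by_cases hs : g.1 (dc k) + dc k = dc 1
    · rw [show s k = true from decide_eq_true hs, if_pos rfl, dc_xor hk64 (by norm_num), ← hs,
        add_left_comm, v_add_self, add_zero]
    · rw [show s k = false from decide_eq_false hs, if_neg Bool.false_ne_true, Nat.xor_zero]
      exact v_eq_of_add ((hN _ hperp).resolve_right hs)
  set t := cd (g.1 (dc 4))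
  have ht : g.1 (dc 4) = dc t.val := (dc_cd _).symm
  have h4 : t.val = sgn w.val 4 := by
    refine sieg_unique w hw t ?_ ?_ ?_
    · refine bz_inj _ _ ?_
      rw [← q_dc t.isLt, ← ht, g.2, q_dc (by norm_num)]
      rfl
    · refine bz_true ?_
      rw [← Bp_dc (by norm_num) t.isLt, ← ht, ← he, polar_g, Bp_dc (by norm_num) (by norm_num)]
      rfl
    · intro k hkk
      obtain ⟨e, hk64⟩ := hk k hkk
      refine bz_inj _ _ ?_
      rw [← Bp_dc t.isLt (sgn_lt w.isLt hk64), ← ht, ← e, polar_g, Bp_dc (by norm_num) hk64]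
  refine ⟨w, hw, lin_ext g _ (fun v hv => sgn_lt w.isLt hv) (sgn_zero w) (sgn_lin w) ?_⟩
  intro k hkk
  simp only [List.mem_cons, List.not_mem_nil, or_false] at hkk
  rcases hkk with rfl | rfl | rfl | rfl | rfl | rfl
  · rw [(sgn_low w hw).1]; exact he
  · exact (hk 2 (by simp)).1
  · rw [ht, h4]
  · exact (hk 8 (by simp)).1
  · exact (hk 16 (by simp)).1
  · exact (hk 32 (by simp)).1

/-- An involution of trivial Dickson invariant centralises some quotient `v⊥ / v`, `v` singular. -/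
theorem exists_singular_axis (g : O) (h2 : g * g = 1) (h1 : g ≠ 1) (hd : dsign g = 1) :
    ∃ p : V, p ≠ 0 ∧ qM 2 p = 0 ∧ g.1 p = p ∧
      ∀ x : V, Bp x p = 0 → g.1 x + x = 0 ∨ g.1 x + x = p := by
  classical
  let N : V →ₗ[ZMod 2] V := (g.1 : V →ₗ[ZMod 2] V) + LinearMap.id
  have hN : ∀ x, N x = g.1 x + x := fun x => rfl
  have hgg : ∀ x, g.1 (g.1 x) = x := fun x => by rw [← oG_mul_apply, h2, oG_one_apply]
  have hker : LinearMap.ker N = fixSub g := by
    ext x
    rw [LinearMap.mem_ker, hN, mem_fixSub]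
    exact ⟨v_eq_of_add, fun e => by rw [e, v_add_self]⟩
  have hle : LinearMap.range N ≤ LinearMap.ker N := by
    rintro _ ⟨x, rfl⟩
    rw [LinearMap.mem_ker, hN, hN, map_add, hgg, show g.1 x + x = x + g.1 x from add_comm _ _, v_add_self]
  have hrank := N.finrank_range_add_finrank_ker
  have hle' := Submodule.finrank_mono hle
  have hV : finrank (ZMod 2) V = 6 := by simp
  have hlt : finrank (ZMod 2) (fixSub g) < 6 := by
    by_contra hcon
    refine h1 (ext_oG fun x => ?_)
    have htop : fixSub g = ⊤ := Submodule.eq_top_of_finrank_eq (le_antisymm (Submodule.finrank_le _)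
      (by rw [hV]; omega))
    exact mem_fixSub.1 (htop.symm ▸ Submodule.mem_top : x ∈ fixSub g)
  have heven : Even (finrank (ZMod 2) V + finrank (ZMod 2) (fixSub g)) := by
    rcases Nat.even_or_odd (finrank (ZMod 2) V + finrank (ZMod 2) (fixSub g)) with h | h
    · exact h
    · rw [dsign, h.neg_one_pow] at hd
      exact absurd hd (by decide)
  obtain ⟨j, hj⟩ := heven
  rw [hker] at hrank hle'
  have hr2 : finrank (ZMod 2) (LinearMap.range N) = 2 := by
    obtain ⟨d, hd'⟩ : ∃ d, d = finrank (ZMod 2) (fixSub g) := ⟨_, rfl⟩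
    obtain ⟨r, hr'⟩ : ∃ r, r = finrank (ZMod 2) (LinearMap.range N) := ⟨_, rfl⟩
    have i1 : r + d = 6 := by rw [hr', hd', ← hV]; exact hrank
    have i2 : r ≤ d := by rw [hr', hd']; exact hle'
    have i3 : d < 6 := by rw [hd']; exact hlt
    have i4 : 6 + d = j + j := by rw [hd', ← hV]; exact hj
    omega
  have hcard : Nat.card (LinearMap.range N) = 4 := by
    rw [Module.natCard_eq_pow_finrank (K := ZMod 2), hr2, Nat.card_zmod]
    norm_num
  have hself : ∀ x y : V, Bp (N x) y = Bp x (N y) := fun x y => by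
    have hxy : Bp (g.1 x) y = Bp x (g.1 y) := by
      conv_lhs => rw [← hgg y]
      exact polar_g g x (g.1 y)
    show polar (qM 2) (g.1 x + x) y = polar (qM 2) x (g.1 y + y)
    rw [polar_add_left, polar_add_right, show polar (qM 2) (g.1 x) y = _ from hxy]
  have hself0 : ∀ x : V, Bp x (N x) = qM 2 (N x) := fun x => by
    show polar (qM 2) x (g.1 x + x) = qM 2 (g.1 x + x)
    rw [polar_add_right, show qM 2 (g.1 x + x) = polar (qM 2) (g.1 x) x + qM 2 (g.1 x) + qM 2 x by
      rw [polar]; ring, g.2 x, show polar (qM 2) x (g.1 x) = polar (qM 2) (g.1 x) x from polar_comm _ _ _,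
      show polar (qM 2) x x = 2 * qM 2 x by rw [polar_self]; simp [two_mul]]
    ring
  have hperp : ∀ x y, Bp (N x) (N y) = 0 := fun x y => by
    rw [hself, show N (N y) = 0 from LinearMap.mem_ker.1 (hle ⟨y, rfl⟩)]
    exact polar_zero_right _ _
  obtain ⟨u, hu0, huq⟩ : ∃ u, N u ≠ 0 ∧ qM 2 (N u) = 0 := by
    by_contra hcon
    push Not at hcon
    have hone : ∀ x, N x ≠ 0 → qM 2 (N x) = 1 := fun x hx =>
      ((by decide : ∀ a : ZMod 2, a ≠ 0 → a = 1) _ (hcon x hx))
    have hbot : ∀ x y, N x ≠ 0 → N y ≠ 0 → N x = N y := by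
      intro x y hx hy
      by_contra hne
      have hxy : N (x + y) ≠ 0 := by
        rw [map_add]
        exact fun e => hne (v_eq_of_add e)
      have h := hperp x y
      simp only [Bp, polar] at h
      rw [← map_add, hone _ hxy, hone _ hx, hone _ hy] at h
      exact absurd h (by decide)
    obtain ⟨⟨a, xa, rfl⟩, ⟨b, xb, rfl⟩, ⟨c, xc, rfl⟩, hab, hac, hbc⟩ :
        ∃ a b c : LinearMap.range N, a ≠ b ∧ a ≠ c ∧ b ≠ c := by
      have : Fintype (LinearMap.range N) := Fintype.ofFinite _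
      rw [Nat.card_eq_fintype_card] at hcard
      obtain ⟨a, b, c, h⟩ := Fintype.two_lt_card_iff.1 (by omega : 2 < Fintype.card (LinearMap.range N))
      exact ⟨a, b, c, h⟩
    replace hab : N xa ≠ N xb := fun e => hab (Subtype.ext e)
    replace hac : N xa ≠ N xc := fun e => hac (Subtype.ext e)
    replace hbc : N xb ≠ N xc := fun e => hbc (Subtype.ext e)
    by_cases ha : N xa = 0
    · exact hbc (hbot _ _ (fun e => hab (ha.trans e.symm)) (fun e => hac (ha.trans e.symm)))
    · by_cases hb : N xb = 0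
      · exact hac (hbot _ _ ha (fun e => hbc (hb.trans e.symm)))
      · exact hab (hbot _ _ ha hb)
  set p := N u with hp
  refine ⟨p, hu0, huq, mem_fixSub.1 (hker ▸ hle ⟨u, rfl⟩), fun x hx => ?_⟩
  have hBx : Bp u (N x) = 0 := by rw [← hself]; exact (polar_comm _ _ _).trans hx
  have hBp : Bp u p = 0 := by rw [hself0, huq]
  have hnd : ∃ y, Bp u (N y) ≠ 0 := by
    by_contra hcon
    push Not at hcon
    exact hu0 (eq_zero_of_polar nondegM2 fun y => (hself u y).trans (hcon y))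
  obtain ⟨y, hy⟩ := hnd
  have hfour : ∀ r ∈ LinearMap.range N, r = 0 ∨ r = p ∨ r = N y ∨ r = N y + p := by
    intro r hr
    have hyp : N y ≠ 0 := fun e => hy (by rw [e]; exact polar_zero_right _ _)
    have hne : N y ≠ p := fun e => hy (e ▸ hBp)
    by_contra hcon
    push Not at hcon
    have : Fintype (LinearMap.range N) := Fintype.ofFinite _
    have h5 : ({0, ⟨p, ⟨u, rfl⟩⟩, ⟨N y, ⟨y, rfl⟩⟩,
        ⟨N y + p, ⟨y + u, map_add N y u⟩⟩, ⟨r, hr⟩} : Finset (LinearMap.range N)).card = 5 := by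
      have d1 : (0 : V) ≠ N y + p := fun e => hne (v_eq_of_add e.symm)
      have d2 : p ≠ N y + p := fun e => hyp (add_eq_right.1 e.symm)
      have d3 : N y ≠ N y + p := fun e => hu0 (add_eq_left.1 e.symm)
      rw [Finset.card_insert_of_notMem, Finset.card_insert_of_notMem, Finset.card_insert_of_notMem,
        Finset.card_insert_of_notMem, Finset.card_singleton]
      · simpa [Subtype.ext_iff] using hcon.2.2.2.symm
      · simpa [Subtype.ext_iff] using And.intro d3 hcon.2.2.1.symm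
      · simpa [Subtype.ext_iff] using And.intro hne.symm (And.intro d2 hcon.2.1.symm)
      · simpa [Subtype.ext_iff] using
          And.intro hu0.symm (And.intro hyp.symm (And.intro d1 hcon.1.symm))
    have := Finset.card_le_univ ({0, ⟨p, ⟨u, rfl⟩⟩, ⟨N y, ⟨y, rfl⟩⟩,
        ⟨N y + p, ⟨y + u, map_add N y u⟩⟩, ⟨r, hr⟩} : Finset (LinearMap.range N))
    rw [h5, ← Nat.card_eq_fintype_card, hcard] at this
    omega
  rcases hfour _ ⟨x, rfl⟩ with e | e | e | e
  · exact Or.inl e
  · exact Or.inr e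
  · exact absurd (e ▸ hBx) hy
  · refine absurd ?_ hy
    have h := e ▸ hBx
    show polar (qM 2) u (N y) = 0
    have h' : polar (qM 2) u (N y + p) = 0 := h
    rwa [polar_add_right, show polar (qM 2) u p = 0 from hBp, add_zero] at h'

/-- At most eight isometries fix the kernel of `lam` and commute with the second Siegel map. -/
theorem card_le_eight {R : Type*} [Finite R] (a b : Bool) (φ : R → O) (hφ : Function.Injective φ)
    (hfix : ∀ r, ∀ k ∈ lamBasis a b, (φ r).1 (dc k) = dc k)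
    (hcomm : ∀ r, ∀ A : O, (∀ v, v < 64 → A.1 (dc v) = dc (sgn 16 v)) →
      ∀ x, (φ r).1 (A.1 x) = A.1 ((φ r).1 x))
    (A : O) (hA : ∀ v, v < 64 → A.1 (dc v) = dc (sgn 16 v)) : Nat.card R ≤ 8 := by
  classical
  have : Fintype R := Fintype.ofFinite _
  let c : O → ℕ → ℕ := fun g k => (cd (g.1 (dc k))).val
  let ψ : R → ℕ × ℕ × ℕ := fun r => (c (φ r) 16, c (φ r) 32, c (φ r) 4)
  have hc : ∀ g : O, ∀ k, g.1 (dc k) = dc (c g k) := fun g k => (dc_cd _).symm
  have hlt : ∀ g k, c g k < 64 := fun g k => (cd _).isLt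
  have hmem : ∀ r, ψ r ∈ cands a b := by
    intro r
    set g := φ r with hg
    have hq : ∀ k, k < 64 → qn (c g k) = qn k := fun k hk => bz_inj _ _ (by
      rw [← q_dc (hlt g k), ← hc, g.2, q_dc hk])
    have hB : ∀ j k, j < 64 → k < 64 → Bn (c g j) (c g k) = Bn j k := fun j k hj hk => bz_inj _ _ (by
      rw [← Bp_dc (hlt g j) (hlt g k), ← hc, ← hc, polar_g, Bp_dc hj hk])
    have hL : ∀ l ∈ lamBasis a b, l < 64 :=
      (by decide : ∀ a b : Bool, ∀ l ∈ lamBasis a b, l < 64) a b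
    have hBL : ∀ j, j < 64 → ∀ l ∈ lamBasis a b, Bn (c g j) l = Bn j l := fun j hj l hl => bz_inj _ _ (by
      rw [← Bp_dc (hlt g j) (hL l hl), ← hc]
      conv_lhs => rw [← hfix r l hl, ← hg]
      rw [polar_g, Bp_dc hj (hL l hl)])
    have he : g.1 (dc 1) = dc 1 := hfix r 1 (by simp [lamBasis])
    have hx : sgn 16 (c g 32) = c g 32 ^^^ 1 := by
      refine dc_inj (sgn_lt (by norm_num) (hlt g 32)) (xor_lt (hlt g 32) (by norm_num)) ?_
      rw [← hA _ (hlt g 32), ← hc, ← hcomm r A hA, hA _ (by norm_num), show sgn 16 32 = 32 ^^^ 1 from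
        by decide +kernel, dc_xor (by norm_num) (by norm_num), map_add, ← hg, he,
        dc_xor (hlt g 32) (by norm_num), ← hc]
    have hy : sgn 16 (c g 4) = c g 4 ^^^ (c g 16 ^^^ 1) := by
      refine dc_inj (sgn_lt (by norm_num) (hlt g 4))
        (xor_lt (hlt g 4) (xor_lt (hlt g 16) (by norm_num))) ?_
      rw [← hA _ (hlt g 4), ← hc, ← hcomm r A hA, hA _ (by norm_num), show sgn 16 4 = 4 ^^^ (16 ^^^ 1)
        from by decide +kernel, dc_xor (by norm_num) (by norm_num),
        dc_xor (by norm_num) (by norm_num), map_add, map_add, ← hg, he,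
        dc_xor (hlt g 4) (xor_lt (hlt g 16) (by norm_num)), dc_xor (hlt g 16) (by norm_num),
        ← hc, ← hc]
    simp only [ψ, cands, List.mem_flatMap, List.mem_filter, List.mem_map, List.mem_range,
      Bool.and_eq_true, beq_iff_eq, List.all_eq_true, Prod.mk.injEq]
    exact ⟨c g 16, ⟨hlt g 16, hq 16 (by norm_num), hBL 16 (by norm_num)⟩, c g 32,
      ⟨⟨hlt g 32, hq 32 (by norm_num), hBL 32 (by norm_num)⟩, hB 16 32 (by norm_num) (by norm_num)⟩,
      c g 4, ⟨⟨hlt g 4, hq 4 (by norm_num), hBL 4 (by norm_num)⟩, hB 16 4 (by norm_num) (by norm_num),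
        hB 32 4 (by norm_num) (by norm_num), hx, hy⟩, rfl, rfl, rfl⟩
  have hinj : Function.Injective ψ := by
    intro r r' hrr
    simp only [ψ, Prod.mk.injEq] at hrr
    refine hφ (ext_oG fun x => ?_)
    rw [← dc_cd x]
    have h16 : (φ r).1 (dc 16) = (φ r').1 (dc 16) := by rw [hc, hc, hrr.1]
    have h32 : (φ r).1 (dc 32) = (φ r').1 (dc 32) := by rw [hc, hc, hrr.2.1]
    have h4 : (φ r).1 (dc 4) = (φ r').1 (dc 4) := by rw [hc, hc, hrr.2.2]
    have hl : ∀ k ∈ lamBasis a b, (φ r).1 (dc k) = (φ r').1 (dc k) := fun k hk => by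
      rw [hfix r k hk, hfix r' k hk]
    let E : Submodule (ZMod 2) V :=
      LinearMap.eqLocus ((φ r).1 : V →ₗ[ZMod 2] V) ((φ r').1 : V →ₗ[ZMod 2] V)
    have hgen : ∀ k ∈ [1, 2, 4, 8, 16, 32], dc k ∈ E := by
      have e1 : dc 1 ∈ E := hl 1 (by simp [lamBasis])
      have e16 : dc 16 ∈ E := h16
      have e2 : dc 2 ∈ E := by
        have h : dc (if a then 18 else 2) ∈ E := hl _ (by simp [lamBasis])
        rcases a with _ | _
        · exact h
        · rw [show dc 2 = dc 18 + dc 16 by rw [← dc_xor (by norm_num) (by norm_num)]; rfl]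
          exact E.add_mem h e16
      have e8 : dc 8 ∈ E := by
        have h : dc (if b then 24 else 8) ∈ E := hl _ (by simp [lamBasis])
        rcases b with _ | _
        · exact h
        · rw [show dc 8 = dc 24 + dc 16 by rw [← dc_xor (by norm_num) (by norm_num)]; rfl]
          exact E.add_mem h e16
      intro k hk
      simp only [List.mem_cons, List.not_mem_nil, or_false] at hk
      rcases hk with rfl | rfl | rfl | rfl | rfl | rfl
      exacts [e1, e2, h4, e8, e16, h32]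
    have hall : ∀ v : Fin 64, dc v.val ∈ E := by
      intro v
      have hp : ∀ k ∈ [1, 2, 4, 8, 16, 32], dc (v.val &&& k) ∈ E ∧ v.val &&& k < 64 := fun k hk => by
        refine ⟨?_, lt_of_le_of_lt Nat.and_le_left v.isLt⟩
        rcases part_cases v k hk with e | e <;> rw [e]
        · rw [dc_zero]; exact E.zero_mem
        · exact hgen k hk
      obtain ⟨e1, l1⟩ := hp 1 (by simp)
      obtain ⟨e2, l2⟩ := hp 2 (by simp)
      obtain ⟨e4, l4⟩ := hp 4 (by simp)
      obtain ⟨e8, l8⟩ := hp 8 (by simp)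
      obtain ⟨e16, l16⟩ := hp 16 (by simp)
      obtain ⟨e32, l32⟩ := hp 32 (by simp)
      rw [split_code v, dc_xor (xor_lt (xor_lt (xor_lt l1 l2) l4) (xor_lt l8 l16)) l32,
        dc_xor (xor_lt (xor_lt l1 l2) l4) (xor_lt l8 l16), dc_xor (xor_lt l1 l2) l4, dc_xor l1 l2,
        dc_xor l8 l16]
      exact E.add_mem (E.add_mem (E.add_mem (E.add_mem e1 e2) e4) (E.add_mem e8 e16)) e32
    exact hall _
  have h1 := Finset.card_le_card_of_injOn ψ (s := Finset.univ) (t := (cands a b).toFinset)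
    (fun r _ => List.mem_toFinset.2 (hmem r)) hinj.injOn
  rw [Finset.card_univ, ← Nat.card_eq_fintype_card] at h1
  exact h1.trans ((List.toFinset_card_le _).trans (cands_length a b))

end Cfsg.Agent.SuzType
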