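import Cfsg.Agent.SuzType.Setting

/-!
The part of `oc w` inside the centraliser of `z`, for a conjugate `w` of `z` above the first
coordinate vector: it realises all Siegel maps, and a singular one by an involution.
-/

set_option autoImplicit false

open Cfsg Cfsg.Agent.ThreeTrans.OrthCohom Cfsg.Agent.Classical.Quad QuadraticMap Cfsg.Agent.LargeExtra

namespace Cfsg.Agent.SuzType

theorem zmod_ne_zero : ∀ a : ZMod 2, a ≠ 0 → a = 1 := by decide

theorem Bp_add_left (x y t : V) : Bp (x + y) t = Bp x t + Bp y t := polar_add_left _ _ _ _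

/-- The Siegel map of `v`. -/
noncomputable def sg (v x : V) : V :=
  x + Bp x v • dc 1 + Bp x (dc 1) • (v + qM 2 v • dc 1)

theorem sg_dc {w v : ℕ} (hw : w < 64) (hv : v < 64) : sg (dc w) (dc v) = dc (sgn w v) := by
  have hs : ∀ (b : Bool) (m : ℕ), m < 64 → bz b • dc m = dc (if b then m else 0) := by
    intro b m hm
    rcases b with _ | _
    · rw [show bz false = 0 from rfl, zero_smul, if_neg Bool.false_ne_true, dc_zero]
    · rw [show bz true = 1 from rfl, one_smul, if_pos rfl]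
  have h1 : (if qn w then 1 else 0) < 64 := by split_ifs <;> norm_num
  have h2 : (if Bn v w then 1 else 0) < 64 := by split_ifs <;> norm_num
  have h3 : (if Bn v 1 then w ^^^ (if qn w then 1 else 0) else 0) < 64 := by
    split_ifs <;> first | exact xor_lt hw (by norm_num) | norm_num
  rw [sg, q_dc hw, Bp_dc hv hw, Bp_dc hv (by norm_num), hs _ 1 (by norm_num), hs _ 1 (by norm_num),
    ← dc_xor hw h1, hs _ _ (xor_lt hw h1), ← dc_xor hv h2, ← dc_xor (xor_lt hv h2) h3]
  rfl

theorem sg_comp {v u : V} (hv : Bp v (dc 1) = 0) (hu : Bp u (dc 1) = 0) (x : V) :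
    sg v (sg u x) = sg (v + u) x := by
  have hee : Bp (dc 1) (dc 1) = 0 := by rw [Bp_dc (by norm_num) (by norm_num)]; rfl
  have hev : Bp (dc 1) v = 0 := (polar_comm _ _ _).trans hv
  set c := Bp x (dc 1) with hc
  have h1 : Bp (sg u x) (dc 1) = c := by
    simp only [sg, Bp, polar_add_left, polar_smul_left]
    rw [show polar (qM 2) (dc 1) (dc 1) = 0 from hee, show polar (qM 2) u (dc 1) = 0 from hu]
    simp [hc]
  have h2 : Bp (sg u x) v = Bp x v + c * Bp u v := by
    simp only [sg, Bp, polar_add_left, polar_smul_left]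
    rw [show polar (qM 2) (dc 1) v = 0 from hev]
    simp [hc]
  have h3 : qM 2 (v + u) = qM 2 v + qM 2 u + Bp u v := by
    rw [show Bp u v = polar (qM 2) v u from polar_comm _ _ _, polar]; ring
  have h4 : Bp x (v + u) = Bp x v + Bp x u := polar_add_right _ _ _ _
  rw [sg, h1, h2, sg, sg, ← hc, h3, h4]
  funext i
  simp only [Pi.add_apply, Pi.smul_apply, smul_eq_mul]
  ring

theorem sg_zero (x : V) : sg 0 x = x := by
  rw [sg, show Bp x 0 = 0 from polar_zero_right _ _, map_zero]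
  simp

theorem sg_equiv (g : O) (he : g.1 (dc 1) = dc 1) (v x : V) : g.1 (sg v x) = sg (g.1 v) (g.1 x) := by
  simp only [sg, map_add, map_smul, he]
  rw [polar_g, g.2 v, show Bp (g.1 x) (dc 1) = Bp x (dc 1) by
    conv_lhs => rw [← he]
    exact polar_g g x (dc 1)]

theorem sg_e (x : V) : sg (dc 1) x = x := by
  rw [← dc_cd x, sg_dc (by norm_num) (cd x).isLt]
  congr 1
  exact (by decide +kernel : ∀ v : Fin 64, sgn 1 v.val = v.val) (cd x)

theorem sg_inj_code : ∀ v : Fin 64, Bn v.val 1 = false →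
    sgn v.val 2 = 2 → sgn v.val 8 = 8 → sgn v.val 16 = 16 → sgn v.val 32 = 32 →
    v.val = 0 ∨ v.val = 1 := by decide +kernel

theorem sg_inj {v : V} (hv : Bp v (dc 1) = 0) (h : ∀ x, sg v x = x) : v = 0 ∨ v = dc 1 := by
  have hb : Bn (cd v).val 1 = false := by
    rw [← bz_eq_zero, ← Bp_dc (cd v).isLt (by norm_num), dc_cd]; exact hv
  have hk : ∀ k, k < 64 → sgn (cd v).val k = k := fun k hk =>
    dc_inj (sgn_lt (cd v).isLt hk) hk (by rw [← sg_dc (cd v).isLt hk, dc_cd, h])
  rcases sg_inj_code _ hb (hk _ (by norm_num)) (hk _ (by norm_num)) (hk _ (by norm_num))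
    (hk _ (by norm_num)) with e | e
  · exact Or.inl (by rw [← dc_cd v, e, dc_zero])
  · exact Or.inr (by rw [← dc_cd v, e])

theorem perp_singular : ∀ v : Fin 64, v.val ≠ 0 → qn v.val = false →
    ∃ u : Fin 64, qn u.val = false ∧ Bn u.val v.val = false ∧ u.val ≠ 0 ∧ u.val ≠ v.val := by
  decide +kernel

theorem perp_noncomm : ∀ v : Fin 64, v.val ≠ 0 → qn v.val = false →
    ∃ a : Fin 64, Bn a.val v.val = false ∧ ∃ b : Fin 64, Bn b.val v.val = false ∧
      Bn a.val b.val = true := by decide +kernel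

theorem four_span : ∀ v : Fin 64, Bn v.val 1 = false → ∃ i j k l : Bool,
    v.val ^^^ (((if i then 10 else 0) ^^^ (if j then 18 else 0)) ^^^
      ((if k then 34 else 0) ^^^ (if l then 50 else 0))) ∈ [0, 1] := by decide +kernel

theorem reps_code : ∀ k ∈ [10, 18, 34, 50], k < 64 ∧ Bn k 1 = false ∧ qn k = true ∧
    ∀ l ∈ [10, 18, 34, 50], k = l ∨ (qn (k ^^^ l) = true ∧ k ^^^ l ≠ 0 ∧ k ^^^ l ≠ 1) := by
  decide +kernel

variable {G : Type*} [Group G] [Finite G]

namespace Suz

variable {z : G} (S : Suz z)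
include S

/-- A conjugate of `z` above the first coordinate vector. -/
structure Fr (w : G) : Prop where
  mem : w ∈ oc z
  conj : ∃ g : G, g * z * g⁻¹ = w
  pr_eq : S.pr w = dc 1

theorem exists_fr : ∃ w, S.Fr w := by
  obtain ⟨g, h1, h2⟩ := S.exists_frame
  exact ⟨_, ⟨h1, ⟨g, rfl⟩, h2⟩⟩

variable {S}

omit S in
theorem cw {w x : G} {a : G} (hx : x * w = w * x) (ha : a * w = w * a) :
    x * a * w = w * (x * a) := Commute.mul_left hx ha

variable {w : G} (F : S.Fr w)
include F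

theorem wset : Setting w := by
  obtain ⟨g, rfl⟩ := F.conj
  exact S.sett.conj g

theorem zmem_oc : z ∈ oc w := by
  obtain ⟨g, rfl⟩ := F.conj
  exact S.sett.symm F.mem

theorem ww : w * w = 1 := (wset F).sq_one

theorem wne : w ≠ 1 := (wset F).ne_one

theorem w_ne_z : w ≠ z := fun e => by
  have h := F.pr_eq
  rw [e, S.pr_z, ← dc_zero] at h
  exact absurd (dc_inj (by norm_num) (by norm_num) h) (by norm_num)

theorem wz : w * z = z * w := S.comm F.mem

theorem Fr_mul_z : S.Fr (w * z) := by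
  refine ⟨mul_mem F.mem S.zmem, ?_, by rw [S.pr_mul _ F.mem _ S.zmem, F.pr_eq, S.pr_z, add_zero]⟩
  obtain ⟨y, -, hy⟩ := S.sett.exists_mover F.mem (wne F) (w_ne_z F)
  obtain ⟨g, hg⟩ := F.conj
  exact ⟨y * g, by rw [← hy, ← hg]; group⟩

theorem comm_w {x : G} (hx : x ∈ oc w) : x * w = w * x := ((wset F).comm_z hx).eq

theorem nrm_w {c x : G} (hc : c * w = w * c) (hx : x ∈ oc w) : c * x * c⁻¹ ∈ oc w :=
  oc_conj_mem (Subgroup.mem_centralizer_singleton_iff.2 hc) hx

theorem perp_of_comm {a : G} (ha : a ∈ oc z) (h : a * w = w * a) : Bp (S.pr a) (dc 1) = 0 := by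
  rw [← F.pr_eq]; exact (S.commute_iff ha F.mem).1 h

/-- Isometries fixing the base vector are induced by elements centralising `z` and `w`. -/
theorem exists_stab (g : O) (hg : dsign g = 1) (he : g.1 (dc 1) = dc 1) :
    ∃ c, c * z = z * c ∧ c * w = w * c ∧ S.act c = g := by
  obtain ⟨c, hc, rfl⟩ := S.act_surj g hg
  rcases S.pr_eq F.mem (S.nrm hc F.mem) (by rw [S.act_spec c hc w F.mem, F.pr_eq, he]) with e | e
  · exact ⟨c, hc, mul_inv_eq_iff_eq_mul.1 e, rfl⟩
  · obtain ⟨y, hy, hym⟩ := S.sett.exists_mover F.mem (wne F) (w_ne_z F)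
    refine ⟨y * c, Commute.mul_left (S.comm hy) hc, ?_, by rw [S.act_mul (S.comm hy) hc, S.act_inner hy, one_mul]⟩
    refine mul_inv_eq_iff_eq_mul.1 ?_
    calc y * c * w * (y * c)⁻¹ = y * (c * w * c⁻¹) * y⁻¹ := by group
      _ = y * w * y⁻¹ * (y * z * y⁻¹) := by rw [e]; group
      _ = w * z * z := by rw [hym, mul_inv_eq_of_eq_mul (S.comm hy)]
      _ = w := by rw [mul_assoc, S.zz, mul_one]

/-- The intersection of the two extraspecial groups. -/
theorem inter {k : G} (hk : k ∈ oc z) (hk' : k ∈ oc w) : k = 1 ∨ k = z ∨ k = w ∨ k = w * z := by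
  have hperp := perp_of_comm F hk (comm_w F hk')
  have hboth : ∀ c : G, (c = 1 ∨ c = z) → (c = 1 ∨ c = w) → c = 1 := by
    rintro c (rfl | rfl) (h | h) <;> first | rfl | exact h | exact absurd h.symm (w_ne_z F)
  have hsq : k * k = 1 := by
    refine hboth _ ?_ ((wset F).center_cases (mul_mem hk' hk') fun q hq => ?_)
    · rw [S.pr_sq k hk]
      rcases zmod_cases (qM 2 (S.pr k)) with e | e <;> simp [e, zp_zero, zp_one]
    · rcases (wset F).commutator_cases hq hk' with h | h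
      · exact Commute.mul_right (commutatorElement_eq_one_iff_mul_comm.1 h)
          (commutatorElement_eq_one_iff_mul_comm.1 h)
      · have hqk : q * k = w * (k * q) := by rw [← h]; group
        show q * (k * k) = k * k * q
        calc q * (k * k) = q * k * k := (mul_assoc _ _ _).symm
          _ = w * (k * q) * k := by rw [hqk]
          _ = w * (k * (q * k)) := by group
          _ = w * (k * w) * (k * q) := by rw [hqk]; group
          _ = k * k * q := by rw [comm_w F hk', ← mul_assoc w w, ww F]; group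
  have hq : qM 2 (S.pr k) = 0 := zp_inj S.zne (by rw [← S.pr_sq k hk, hsq, zp_zero])
  by_cases h0 : S.pr k = 0
  · rcases S.pr_ker k hk h0 with e | e
    exacts [Or.inl e, Or.inr (Or.inl e)]
  by_cases h1 : S.pr k = dc 1
  · rcases S.pr_eq F.mem hk (F.pr_eq.trans h1.symm) with e | e
    exacts [Or.inr (Or.inr (Or.inl e)), Or.inr (Or.inr (Or.inr e))]
  exfalso
  obtain ⟨a, ⟨ha, ha1⟩, b, ⟨hb, hb1⟩, hab⟩ := stab_move (cd (S.pr k))
    (by rw [← bz_eq_zero, ← q_dc (cd (S.pr k)).isLt, dc_cd]; exact hq)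
    (by rw [← bz_eq_zero, ← Bp_dc (cd (S.pr k)).isLt (by norm_num), dc_cd]; exact hperp)
    (fun e => h0 (by rw [← dc_cd (S.pr k), e, dc_zero]))
    (fun e => h1 (by rw [← dc_cd (S.pr k), e]))
  obtain ⟨r, hr, hract⟩ := exists_rr a.isLt b.isLt ha hb
  have he : r.1 (dc 1) = dc 1 := by
    rw [hract 1 (by norm_num)]
    congr 1
    have e1 : Bn 1 b.val = false := by rw [← hb1]; exact (by decide +kernel : ∀ i : Fin 64, Bn 1 i.val = Bn i.val 1) b
    have e2 : Bn 1 a.val = false := by rw [← ha1]; exact (by decide +kernel : ∀ i : Fin 64, Bn 1 i.val = Bn i.val 1) a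
    simp [g2n, e1, e2]
  obtain ⟨c, hc, hcw, rfl⟩ := exists_stab F r hr he
  have hk1 := S.nrm hc hk
  have hk1' := nrm_w F hcw hk'
  have h := hboth _ (S.sett.commutator_cases hk1 hk) ((wset F).commutator_cases hk1' hk')
  have h' := (S.commute_iff hk1 hk).1 (commutatorElement_eq_one_iff_mul_comm.1 h)
  rw [S.act_spec c hc k hk, ← dc_cd (S.pr k), hract _ (cd (S.pr k)).isLt,
    Bp_dc (g2n_lt a.isLt b.isLt (cd (S.pr k)).isLt) (cd (S.pr k)).isLt, hab] at h'
  exact absurd h' (by decide)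

theorem inter_comm {k x : G} (hk : k ∈ oc z) (hk' : k ∈ oc w) (hxz : x * z = z * x)
    (hxw : x * w = w * x) : x * k = k * x := by
  rcases inter F hk hk' with rfl | rfl | rfl | rfl
  exacts [by simp, hxz, hxw, by rw [← mul_assoc, hxw, mul_assoc, hxz, ← mul_assoc]]

theorem inter_sq {k : G} (hk : k ∈ oc z) (hk' : k ∈ oc w) : k * k = 1 := by
  rcases inter F hk hk' with rfl | rfl | rfl | rfl
  · exact one_mul 1
  · exact S.zz
  · exact ww F
  · calc w * z * (w * z) = w * (z * w) * z := by group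
      _ = w * w * (z * z) := by rw [← wz F]; group
      _ = 1 := by rw [ww F, S.zz, one_mul]

/-- Every element of `oc w` centralising `z` acts as a Siegel map. -/
theorem act_sg {x : G} (hx : x ∈ oc w) (hxz : x * z = z * x) :
    ∃ v, Bp v (dc 1) = 0 ∧ ∀ y, (S.act x).1 y = sg v y := by
  have he : (S.act x).1 (dc 1) = dc 1 := by
    rw [← F.pr_eq, ← S.act_spec x hxz w F.mem, mul_inv_eq_of_eq_mul (comm_w F hx)]
  obtain ⟨v, hv, hgv⟩ := exists_sgn (S.act x) he fun y hy => by
    obtain ⟨a, ha, rfl⟩ := S.pr_surj y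
    rw [← F.pr_eq] at hy
    have haw : a * w = w * a := (S.commute_iff ha F.mem).2 hy
    have h1 : x * a * x⁻¹ * a⁻¹ ∈ oc z := mul_mem (S.nrm hxz ha) (inv_mem ha)
    have h2 : x * a * x⁻¹ * a⁻¹ ∈ oc w := by
      rw [show x * a * x⁻¹ * a⁻¹ = x * (a * x⁻¹ * a⁻¹) by group]
      exact mul_mem hx (nrm_w F haw (inv_mem hx))
    have h3 : S.pr (x * a * x⁻¹ * a⁻¹) = (S.act x).1 (S.pr a) + S.pr a := by
      rw [S.pr_mul _ (S.nrm hxz ha) _ (inv_mem ha), S.act_spec x hxz a ha, S.pr_inv ha]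
    rw [← h3]
    rcases inter F h1 h2 with e | e | e | e <;> rw [e]
    · exact Or.inl S.pr_one
    · exact Or.inl S.pr_z
    · exact Or.inr F.pr_eq
    · exact Or.inr (by rw [S.pr_mul _ F.mem _ S.zmem, F.pr_eq, S.pr_z, add_zero])
  refine ⟨dc v.val, by rw [Bp_dc v.isLt (by norm_num), hv]; rfl, fun y => ?_⟩
  rw [← dc_cd y, hgv _ (cd y).isLt, sg_dc v.isLt (cd y).isLt]

/-- Elements with the same action differ by an element of the intersection. -/
theorem same_act {x y : G} (hx : x ∈ oc w) (hxz : x * z = z * x) (hy : y ∈ oc w)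
    (hyz : y * z = z * y) (h : ∀ u, (S.act x).1 u = (S.act y).1 u) :
    ∃ k, k ∈ oc z ∧ k ∈ oc w ∧ y = x * k := by
  have hxi := (Commute.inv_left hxz).eq
  refine ⟨x⁻¹ * y, S.act_ker _ (Commute.mul_left hxi hyz) ?_, mul_mem (inv_mem hx) hy,
    (mul_inv_cancel_left x y).symm⟩
  rw [S.act_mul hxi hyz, S.act_inv hxz, ext_oG h, inv_mul_cancel]

theorem sq_eq_of_same {x y : G} (hx : x ∈ oc w) (hxz : x * z = z * x) (hy : y ∈ oc w)
    (hyz : y * z = z * y) (h : ∀ u, (S.act x).1 u = (S.act y).1 u) : x * x = y * y := by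
  obtain ⟨k, hk, hk', rfl⟩ := same_act F hx hxz hy hyz h
  rw [show x * k * (x * k) = x * (k * x) * k by group, ← inter_comm F hk hk' hxz (comm_w F hx),
    show x * (x * k) * k = x * x * (k * k) by group, inter_sq F hk hk', mul_one]

theorem card_comm {a : G} (ha : a ∈ oc z) (h0 : S.pr a ≠ 0) :
    Nat.card ↥(oc z ⊓ Subgroup.centralizer ({a} : Set G)) = 64 := by
  classical
  let f : ↥(oc z) →* Multiplicative (ZMod 2) := MonoidHom.mk'
    (fun q => Multiplicative.ofAdd (Bp (S.pr q) (S.pr a))) fun p q => by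
      rw [← ofAdd_add, Subgroup.coe_mul, S.pr_mul p p.2 q q.2]
      exact congrArg _ (polar_add_left _ _ _ _)
  have hsurj : Function.Surjective f := by
    obtain ⟨y, hy⟩ : ∃ y, Bp y (S.pr a) ≠ 0 := by
      by_contra hcon
      push Not at hcon
      exact h0 (eq_zero_of_polar nondegM2 fun y => (polar_comm _ _ _).trans (hcon y))
    obtain ⟨b, hb, rfl⟩ := S.pr_surj y
    intro c
    rcases zmod_cases c.toAdd with e | e
    · exact ⟨1, by rw [map_one]; exact (congrArg Multiplicative.ofAdd e).symm⟩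
    · exact ⟨⟨b, hb⟩, by
        show Multiplicative.ofAdd (Bp (S.pr b) (S.pr a)) = c
        rw [zmod_ne_zero _ hy]; exact (congrArg Multiplicative.ofAdd e).symm⟩
  have hi : f.ker.index = 2 := by
    rw [Subgroup.index_ker, MonoidHom.range_eq_top.2 hsurj, Subgroup.card_top]
    simp
  have hc := f.ker.card_mul_index
  rw [hi, S.card] at hc
  have he : Nat.card f.ker = Nat.card ↥(oc z ⊓ Subgroup.centralizer ({a} : Set G)) := by
    refine Nat.card_congr
      { toFun := fun q => ⟨q.1.1, q.1.2, ?_⟩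
        invFun := fun q => ⟨⟨q.1, q.2.1⟩, ?_⟩
        left_inv := fun q => rfl
        right_inv := fun q => rfl }
    · refine Subgroup.mem_centralizer_singleton_iff.2 ((S.commute_iff q.1.2 ha).2 ?_)
      exact Multiplicative.ofAdd.injective (MonoidHom.mem_ker.1 q.2)
    · refine MonoidHom.mem_ker.2 ?_
      show Multiplicative.ofAdd (Bp (S.pr q.1) (S.pr a)) = 1
      rw [(S.commute_iff q.2.1 ha).1 (Subgroup.mem_centralizer_singleton_iff.1 q.2.2), ofAdd_zero]
  omega

/-- Transport from `oc z`. -/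
theorem transport : ∃ g : G, g * z * g⁻¹ = w ∧ g⁻¹ * z * g ∈ oc z ∧ S.pr (g⁻¹ * z * g) ≠ 0 ∧
    ∀ a, a ∈ oc z → a * (g⁻¹ * z * g) = g⁻¹ * z * g * a →
      g * a * g⁻¹ ∈ oc w ∧ g * a * g⁻¹ * z = z * (g * a * g⁻¹) := by
  obtain ⟨g, hg⟩ := F.conj
  have hm : g⁻¹ * z * g ∈ oc z := by
    have h1 := conj_mem_oc (g := g⁻¹) (zmem_oc F)
    rwa [show g⁻¹ * w * g⁻¹⁻¹ = z by rw [← hg]; group, inv_inv] at h1
  refine ⟨g, hg, hm, fun e => ?_, fun a ha hc => ⟨hg ▸ conj_mem_oc ha, ?_⟩⟩
  · rcases S.pr_ker _ hm e with h | h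
    · exact S.zne (by
        calc z = g * (g⁻¹ * z * g) * g⁻¹ := by group
          _ = 1 := by rw [h]; group)
    · exact w_ne_z F (by
        calc w = g * z * g⁻¹ := hg.symm
          _ = g * (g⁻¹ * z * g) * g⁻¹ := by rw [h]
          _ = z := by group)
  · calc g * a * g⁻¹ * z = g * (a * (g⁻¹ * z * g)) * g⁻¹ := by group
      _ = z * (g * a * g⁻¹) := by rw [hc]; group

/-- Every Siegel map is realised. -/
theorem exists_sg {v : V} (hv : Bp v (dc 1) = 0) :
    ∃ x, x ∈ oc w ∧ x * z = z * x ∧ ∀ y, (S.act x).1 y = sg v y := by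
  classical
  set X : Subgroup G := oc w ⊓ Subgroup.centralizer ({z} : Set G)
  have hX : Nat.card X = 64 := by
    obtain ⟨g, hg, hm, h0, htr⟩ := transport F
    rw [← card_comm F hm h0]
    have hback : ∀ x : X, g⁻¹ * x.1 * g ∈ oc z ⊓ Subgroup.centralizer ({g⁻¹ * z * g} : Set G) := by
      intro x
      refine ⟨?_, Subgroup.mem_centralizer_singleton_iff.2 ?_⟩
      · have h1 := conj_mem_oc (g := g⁻¹) x.2.1
        rwa [show g⁻¹ * w * g⁻¹⁻¹ = z by rw [← hg]; group, inv_inv] at h1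
      · calc g⁻¹ * x.1 * g * (g⁻¹ * z * g) = g⁻¹ * (x.1 * z) * g := by group
          _ = g⁻¹ * z * g * (g⁻¹ * x.1 * g) := by
            rw [Subgroup.mem_centralizer_singleton_iff.1 x.2.2]; group
    exact Nat.card_congr
      { toFun := fun x => ⟨g⁻¹ * x.1 * g, hback x⟩
        invFun := fun a => ⟨g * a.1 * g⁻¹,
          (htr a.1 a.2.1 (Subgroup.mem_centralizer_singleton_iff.1 a.2.2)).1,
          Subgroup.mem_centralizer_singleton_iff.2
            (htr a.1 a.2.1 (Subgroup.mem_centralizer_singleton_iff.1 a.2.2)).2⟩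
        left_inv := fun x => Subtype.ext (by simp [mul_assoc])
        right_inv := fun a => Subtype.ext (by simp [mul_assoc]) }
  have hsel : ∀ x : X, ∃ u : Fin 64, u.val &&& 5 = 0 ∧ ∀ y, (S.act x.1).1 y = sg (dc u.val) y := by
    intro x
    obtain ⟨u, hu, hact⟩ := act_sg F x.2.1 (Subgroup.mem_centralizer_singleton_iff.1 x.2.2)
    have hb : Bn (cd u).val 1 = false := by
      rw [← bz_eq_zero, ← Bp_dc (cd u).isLt (by norm_num), dc_cd]; exact hu
    obtain ⟨u', h5, hu'⟩ := (by decide +kernel : ∀ u : Fin 64, Bn u.val 1 = false →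
      ∃ u' : Fin 64, u'.val &&& 5 = 0 ∧ (u'.val = u.val ∨ u'.val = u.val ^^^ 1)) _ hb
    refine ⟨u', h5, fun y => ?_⟩
    rw [hact, ← dc_cd u]
    rcases hu' with e | e <;> rw [e]
    rw [dc_xor (cd u).isLt (by norm_num), ← sg_comp (by rw [dc_cd]; exact hu)
      (by rw [Bp_dc (by norm_num) (by norm_num)]; rfl), sg_e]
  choose f hf5 hf using hsel
  have : Fintype X := Fintype.ofFinite _
  let W : Finset (Fin 64) := Finset.univ.filter fun u => u.val &&& 5 = 0
  have hW : W.card = 16 := by decide +kernel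
  obtain ⟨u', h5, hu'⟩ := (by decide +kernel : ∀ u : Fin 64, Bn u.val 1 = false →
    ∃ u' : Fin 64, u'.val &&& 5 = 0 ∧ (u'.val = u.val ∨ u'.val = u.val ^^^ 1)) (cd v)
    (by rw [← bz_eq_zero, ← Bp_dc (cd v).isLt (by norm_num), dc_cd]; exact hv)
  have hfib : ∀ u ∈ W, (Finset.univ.filter fun x : X => f x = u).card ≤ 4 := by
    intro u _
    rcases Finset.eq_empty_or_nonempty (Finset.univ.filter fun x : X => f x = u) with h | ⟨x, hx⟩
    · simp [h]
    simp only [Finset.mem_filter, Finset.mem_univ, true_and] at hx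
    have hsub : (Finset.univ.filter fun y : X => f y = u).image (fun y : X => x.1⁻¹ * y.1) ⊆
        ({1, z, w, w * z} : Finset G) := by
      intro k hk
      simp only [Finset.mem_image, Finset.mem_filter, Finset.mem_univ, true_and] at hk
      obtain ⟨y, hy, rfl⟩ := hk
      obtain ⟨k, hk1, hk2, e⟩ := same_act F x.2.1 (Subgroup.mem_centralizer_singleton_iff.1 x.2.2)
        y.2.1 (Subgroup.mem_centralizer_singleton_iff.1 y.2.2)
        fun t => by rw [hf, hf, hx, hy]
      rw [e, inv_mul_cancel_left]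
      rcases inter F hk1 hk2 with rfl | rfl | rfl | rfl <;> simp
    rw [← Finset.card_image_of_injective _ (f := fun y : X => x.1⁻¹ * y.1)
      fun a b h => Subtype.ext (mul_left_cancel h)]
    exact (Finset.card_le_card hsub).trans Finset.card_le_four
  by_cases hex : ∃ x, f x = u'
  · obtain ⟨x, hx⟩ := hex
    refine ⟨x.1, x.2.1, Subgroup.mem_centralizer_singleton_iff.1 x.2.2, fun y => ?_⟩
    rw [hf, hx, ← dc_cd v]
    rcases hu' with e | e <;> rw [e]
    rw [dc_xor (cd v).isLt (by norm_num), ← sg_comp (by rw [dc_cd]; exact hv)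
      (by rw [Bp_dc (by norm_num) (by norm_num)]; rfl), sg_e]
  · exfalso
    push Not at hex
    have hm : ∀ x ∈ (Finset.univ : Finset X), f x ∈ W.erase u' := fun x _ =>
      Finset.mem_erase.2 ⟨hex x, Finset.mem_filter.2 ⟨Finset.mem_univ _, hf5 x⟩⟩
    have := Finset.card_le_mul_card_image_of_maps_to hm 4 fun u hu => hfib u (Finset.mem_of_mem_erase hu)
    rw [Finset.card_univ, ← Nat.card_eq_fintype_card, hX,
      Finset.card_erase_of_mem (s := W) (Finset.mem_filter.2 ⟨Finset.mem_univ _, h5⟩), hW] at this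
    omega

/-- Involutions of `oc w` other than `w` are conjugate to `z`. -/
theorem conj_of_invol {x : G} (hx : x ∈ oc w) (h2 : x * x = 1) (h1 : x ≠ 1) : IsConj z x := by
  obtain ⟨g, hg⟩ := F.conj
  by_cases hxw : x = w
  · exact hxw ▸ isConj_iff.2 ⟨g, hg⟩
  have hq : g⁻¹ * x * g ∈ oc z := by
    have h1 := conj_mem_oc (g := g⁻¹) hx
    rwa [show g⁻¹ * w * g⁻¹⁻¹ = z by rw [← hg]; group, inv_inv] at h1
  refine (S.conj_of_singular hq (fun e => ?_) (zp_inj S.zne ?_)).trans (isConj_iff.2 ⟨g, by group⟩)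
  · rcases S.pr_ker _ hq e with h | h
    · exact h1 (by
        calc x = g * (g⁻¹ * x * g) * g⁻¹ := by group
          _ = 1 := by rw [h]; group)
    · exact hxw (by
        calc x = g * (g⁻¹ * x * g) * g⁻¹ := by group
          _ = w := by rw [h, hg])
  · rw [← S.pr_sq _ hq, zp_zero]
    calc g⁻¹ * x * g * (g⁻¹ * x * g) = g⁻¹ * (x * x) * g := by group
      _ = 1 := by rw [h2]; group

theorem sq_cases {x : G} (hx : x ∈ oc w) : x * x = 1 ∨ x * x = w := by
  obtain ⟨g, hg⟩ := F.conj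
  have hq : g⁻¹ * x * g ∈ oc z := by
    have h1 := conj_mem_oc (g := g⁻¹) hx
    rwa [show g⁻¹ * w * g⁻¹⁻¹ = z by rw [← hg]; group, inv_inv] at h1
  have h := S.pr_sq _ hq
  have e : x * x = g * zp z (qM 2 (S.pr (g⁻¹ * x * g))) * g⁻¹ := by rw [← h]; group
  rcases zmod_cases (qM 2 (S.pr (g⁻¹ * x * g))) with e' | e'
  · exact Or.inl (by rw [e, e', zp_zero]; group)
  · exact Or.inr (by rw [e, e', zp_one, hg])

/-- The square depends only on the quadratic value. -/
theorem sq_rep {x y : G} {v : V} (hx : x ∈ oc w) (hxz : x * z = z * x)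
    (hxv : ∀ u, (S.act x).1 u = sg v u) (hv : Bp v (dc 1) = 0) (hv0 : v ≠ 0) (hv1 : v ≠ dc 1)
    (hy : y ∈ oc w) (hyz : y * z = z * y)
    (hyv : ∀ u, (S.act y).1 u = sg (dc (if qn (cd v).val then 16 else 2)) u) :
    x * x = y * y := by
  set i := cd v with hi
  set m := (if qn i.val then 16 else 2) with hm
  have hm' : m = 16 ∨ m = 2 := by rw [hm]; rcases qn i.val with _ | _ <;> simp
  obtain ⟨a, ⟨ha, ha1⟩, b, ⟨hb, hb1⟩, hab⟩ := stab_orbit i
    (by rw [← bz_eq_zero, ← Bp_dc i.isLt (by norm_num), dc_cd]; exact hv)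
    (fun e => hv0 (by rw [← dc_cd v, ← hi, e, dc_zero]))
    (fun e => hv1 (by rw [← dc_cd v, ← hi, e]))
  obtain ⟨r, hr, hract⟩ := exists_rr a.isLt b.isLt ha hb
  have hsym : ∀ i : Fin 64, Bn 1 i.val = Bn i.val 1 := by decide +kernel
  have he : r.1 (dc 1) = dc 1 := by
    rw [hract 1 (by norm_num)]
    congr 1
    simp [g2n, hsym, hb1, ha1]
  obtain ⟨c, hc, hcw, rfl⟩ := exists_stab F r hr he
  have hx' := nrm_w F hcw hx
  have hx'z : c * x * c⁻¹ * z = z * (c * x * c⁻¹) :=
    ((Commute.mul_left hc hxz).mul_left (Commute.inv_left hc)).eq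
  have hci := (Commute.inv_left hc).eq
  have hact : ∀ u, (S.act (c * x * c⁻¹)).1 u = (S.act y).1 u := fun u => by
    rw [S.act_mul (Commute.mul_left hc hxz) hci, S.act_mul hc hxz, S.act_inv hc, oG_mul_apply,
      oG_mul_apply, hxv, sg_equiv _ he, oG_apply_inv, hyv,
      show v = dc i.val from (dc_cd v).symm, hract _ i.isLt]
    rcases hab with e | e <;> rw [e, ← hm]
    rw [show m + 1 = m ^^^ 1 by rcases hm' with e' | e' <;> rw [e'] <;> rfl,
      dc_xor (by omega) (by norm_num), ← sg_comp ?_ (by rw [Bp_dc (by norm_num) (by norm_num)]; rfl),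
      sg_e]
    rcases hm' with e' | e' <;> rw [e', Bp_dc (by norm_num) (by norm_num)] <;> rfl
  rw [← sq_eq_of_same F hx' hx'z hy hyz hact,
    show c * x * c⁻¹ * (c * x * c⁻¹) = c * (x * x) * c⁻¹ by group]
  rcases sq_cases F hx with e | e <;> rw [e]
  · group
  · rw [hcw, mul_inv_cancel_right]

/-- A non-singular Siegel map is realised by elements of order four. -/
theorem sq_nonsingular {y : G} (hy : y ∈ oc w) (hyz : y * z = z * y)
    (hyv : ∀ u, (S.act y).1 u = sg (dc 16) u) : y * y ≠ 1 := by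
  intro h1
  have hns : ∀ {v : V} {x : G}, x ∈ oc w → x * z = z * x → (∀ u, (S.act x).1 u = sg v u) →
      Bp v (dc 1) = 0 → v ≠ 0 → v ≠ dc 1 → qn (cd v).val = true → x * x = 1 := by
    intro v x hx hxz hxv hv h0 h1' hq
    rw [sq_rep F hx hxz hxv hv h0 h1' hy hyz (fun u => by rw [hyv, hq, if_pos rfl]), h1]
  have hperp : ∀ k ∈ [10, 18, 34, 50], Bp (dc k) (dc 1) = 0 := fun k hk => by
    rw [Bp_dc (reps_code k hk).1 (by norm_num), (reps_code k hk).2.1]; rfl
  choose! p hp1 hp2 hp3 using fun k (hk : k ∈ [10, 18, 34, 50]) => exists_sg F (hperp k hk)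
  have hinv : ∀ k ∈ [10, 18, 34, 50], p k * p k = 1 := fun k hk => by
    obtain ⟨hk64, -, hq, -⟩ := reps_code k hk
    refine hns (hp1 k hk) (hp2 k hk) (hp3 k hk) (hperp k hk) ?_ ?_ ?_
    · intro e
      rw [← dc_zero] at e
      rw [dc_inj hk64 (by norm_num) e] at hq
      exact absurd hq (by decide)
    · intro e
      rw [dc_inj hk64 (by norm_num) e] at hq
      exact absurd hq (by decide)
    · rw [cd_dc ⟨k, hk64⟩]; exact hq
  have hpc : ∀ k ∈ [10, 18, 34, 50], ∀ l ∈ [10, 18, 34, 50], Commute (p k) (p l) := by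
    intro k hk l hl
    obtain ⟨hk64, -, -, hkl⟩ := reps_code k hk
    obtain ⟨hl64, -, -, -⟩ := reps_code l hl
    rcases hkl l hl with rfl | ⟨hq, h0, hne⟩
    · exact Commute.refl _
    have hx := mul_mem (hp1 k hk) (hp1 l hl)
    have hxz : p k * p l * z = z * (p k * p l) := Commute.mul_left (hp2 k hk) (hp2 l hl)
    have hsq : p k * p l * (p k * p l) = 1 := by
      refine hns hx hxz (v := dc (k ^^^ l)) (fun u => ?_) ?_ ?_ ?_ ?_
      · rw [S.act_mul (hp2 k hk) (hp2 l hl), oG_mul_apply, hp3 l hl, hp3 k hk,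
          sg_comp (hperp k hk) (hperp l hl), dc_xor hk64 hl64]
      · rw [dc_xor hk64 hl64, Bp_add_left, hperp k hk, hperp l hl, add_zero]
      · intro e
        rw [← dc_zero] at e
        exact h0 (dc_inj (xor_lt hk64 hl64) (by norm_num) e)
      · intro e
        exact hne (dc_inj (xor_lt hk64 hl64) (by norm_num) e)
      · rw [cd_dc ⟨k ^^^ l, xor_lt hk64 hl64⟩]; exact hq
    show p k * p l = p l * p k
    calc p k * p l = (p k * p l)⁻¹ := (inv_eq_of_mul_eq_one_right hsq).symm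
      _ = p l * p k := by
        rw [mul_inv_rev, inv_eq_of_mul_eq_one_right (hinv k hk), inv_eq_of_mul_eq_one_right (hinv l hl)]
  -- everything in `oc w` centralising `z` is a product of the four and the intersection
  let T : Set G := {t | t = p 10 ∨ t = p 18 ∨ t = p 34 ∨ t = p 50 ∨ t = z ∨ t = w}
  have hTc : ∀ s ∈ T, ∀ t ∈ T, s * t = t * s := by
    have hz' : ∀ k ∈ [10, 18, 34, 50], Commute (p k) z := fun k hk => hp2 k hk
    have hw' : ∀ k ∈ [10, 18, 34, 50], Commute (p k) w := fun k hk => comm_w F (hp1 k hk)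
    have hwz : Commute w z := wz F
    rintro s (rfl | rfl | rfl | rfl | rfl | rfl) t (rfl | rfl | rfl | rfl | rfl | rfl) <;>
      first
      | exact (hpc _ (by simp) _ (by simp)).eq
      | exact (hz' _ (by simp)).eq
      | exact (hz' _ (by simp)).eq.symm
      | exact (hw' _ (by simp)).eq
      | exact (hw' _ (by simp)).eq.symm
      | exact hwz.eq
      | exact hwz.eq.symm
      | rfl
  have hcl : ∀ x, x ∈ oc w → x * z = z * x → x ∈ Subgroup.closure T := by
    intro x hx hxz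
    obtain ⟨v, hv, hxv⟩ := act_sg F hx hxz
    obtain ⟨i, j, k, l, hd⟩ := four_span (cd v)
      (by rw [← bz_eq_zero, ← Bp_dc (cd v).isLt (by norm_num), dc_cd]; exact hv)
    let t : ℕ → Bool → G := fun m b => if b then p m else 1
    have ht : ∀ m ∈ [10, 18, 34, 50], ∀ b : Bool, t m b ∈ oc w ∧ t m b * z = z * t m b ∧
        t m b ∈ Subgroup.closure T ∧ Bp (dc (if b then m else 0)) (dc 1) = 0 ∧
        (if b then m else 0) < 64 ∧
        ∀ u, (S.act (t m b)).1 u = sg (dc (if b then m else 0)) u := by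
      intro m hm b
      rcases b with _ | _
      · exact ⟨one_mem _, by simp [t], one_mem _, by
          rw [if_neg Bool.false_ne_true, dc_zero]; exact polar_zero_left _ _, by simp,
          fun u => by
            simp only [t, if_neg Bool.false_ne_true]
            rw [S.act_one, oG_one_apply, dc_zero, sg_zero]⟩
      · refine ⟨hp1 m hm, hp2 m hm, Subgroup.subset_closure ?_, hperp m hm, (reps_code m hm).1, hp3 m hm⟩
        simp only [List.mem_cons, List.not_mem_nil, or_false] at hm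
        rcases hm with rfl | rfl | rfl | rfl <;> simp [T, t]
    obtain ⟨a1, a2, a3, a4, a5, a6⟩ := ht 10 (by simp) i
    obtain ⟨b1, b2, b3, b4, b5, b6⟩ := ht 18 (by simp) j
    obtain ⟨c1, c2, c3, c4, c5, c6⟩ := ht 34 (by simp) k
    obtain ⟨d1, d2, d3, d4, d5, d6⟩ := ht 50 (by simp) l
    set P := t 10 i * t 18 j * (t 34 k * t 50 l)
    have hP1 : P ∈ oc w := mul_mem (mul_mem a1 b1) (mul_mem c1 d1)
    have hP2 : P * z = z * P :=
      Commute.mul_left (Commute.mul_left a2 b2) (Commute.mul_left c2 d2)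
    have hP3 : P ∈ Subgroup.closure T := mul_mem (mul_mem a3 b3) (mul_mem c3 d3)
    have hab : Bp (dc (if i then 10 else 0) + dc (if j then 18 else 0)) (dc 1) = 0 := by
      rw [Bp_add_left, a4, b4, add_zero]
    have hcd : Bp (dc (if k then 34 else 0) + dc (if l then 50 else 0)) (dc 1) = 0 := by
      rw [Bp_add_left, c4, d4, add_zero]
    have hPv : ∀ u, (S.act P).1 u = (S.act x).1 u := fun u => by
      rw [S.act_mul (Commute.mul_left a2 b2).eq (Commute.mul_left c2 d2).eq, S.act_mul a2 b2,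
        S.act_mul c2 d2, oG_mul_apply, oG_mul_apply, oG_mul_apply, d6, c6, b6, a6,
        sg_comp c4 d4, sg_comp b4 hcd, sg_comp a4 (by
          rw [Bp_add_left, b4, hcd, add_zero]), ← add_assoc, hxv]
      rw [← dc_xor a5 b5, ← dc_xor c5 d5, ← dc_xor (xor_lt a5 b5) (xor_lt c5 d5)]
      set s := ((if i then 10 else 0) ^^^ (if j then 18 else 0)) ^^^
        ((if k then 34 else 0) ^^^ (if l then 50 else 0))
      have hs : s < 64 := xor_lt (xor_lt a5 b5) (xor_lt c5 d5)
      simp only [List.mem_cons, List.not_mem_nil, or_false] at hd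
      rcases hd with e | e
      · rw [← dc_cd v, show s = (cd v).val from (Nat.xor_eq_zero_iff.1 e).symm]
      · rw [← dc_cd v, show (cd v).val = s ^^^ 1 by
            rw [← e, Nat.xor_comm (cd v).val s, ← Nat.xor_assoc, Nat.xor_self, Nat.zero_xor],
          dc_xor hs (by norm_num), ← sg_comp ?_ (by rw [Bp_dc (by norm_num) (by norm_num)]; rfl), sg_e]
        rw [dc_xor (xor_lt a5 b5) (xor_lt c5 d5), dc_xor a5 b5, dc_xor c5 d5,
          Bp_add_left, hab, hcd, add_zero]
    obtain ⟨m, hm1, hm2, rfl⟩ := same_act F hP1 hP2 hx hxz hPv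
    refine mul_mem hP3 ?_
    have hzT : z ∈ Subgroup.closure T := Subgroup.subset_closure (by simp [T])
    have hwT : w ∈ Subgroup.closure T := Subgroup.subset_closure (by simp [T])
    rcases inter F hm1 hm2 with rfl | rfl | rfl | rfl
    exacts [one_mem _, hzT, hwT, mul_mem hwT hzT]
  obtain ⟨g, hg, hm, h0, htr⟩ := transport F
  have hq : qn (cd (S.pr (g⁻¹ * z * g))).val = false := by
    rw [← bz_eq_zero, ← q_dc (cd _).isLt, dc_cd]
    refine zp_inj S.zne ?_
    rw [← S.pr_sq _ hm, zp_zero]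
    calc g⁻¹ * z * g * (g⁻¹ * z * g) = g⁻¹ * (z * z) * g := by group
      _ = 1 := by rw [S.zz]; group
  obtain ⟨a, ha, b, hb, hab⟩ := perp_noncomm _
    (fun e => h0 (by rw [← dc_cd (S.pr (g⁻¹ * z * g)), e, dc_zero])) hq
  obtain ⟨a', ha', hae⟩ := S.pr_surj (dc a.val)
  obtain ⟨b', hb', hbe⟩ := S.pr_surj (dc b.val)
  have hca : a' * (g⁻¹ * z * g) = g⁻¹ * z * g * a' := (S.commute_iff ha' hm).2 (by
    rw [hae, ← dc_cd (S.pr (g⁻¹ * z * g)), Bp_dc a.isLt (cd _).isLt, ha]; rfl)
  have hcb : b' * (g⁻¹ * z * g) = g⁻¹ * z * g * b' := (S.commute_iff hb' hm).2 (by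
    rw [hbe, ← dc_cd (S.pr (g⁻¹ * z * g)), Bp_dc b.isLt (cd _).isLt, hb]; rfl)
  obtain ⟨u1, u2⟩ := htr a' ha' hca
  obtain ⟨v1, v2⟩ := htr b' hb' hcb
  have hcm := Subgroup.isMulCommutative_closure (k := T) hTc
  have hc := (hcm.1.comm ⟨_, hcl _ u1 u2⟩ ⟨_, hcl _ v1 v2⟩)
  have hc' : g * a' * g⁻¹ * (g * b' * g⁻¹) = g * b' * g⁻¹ * (g * a' * g⁻¹) := congrArg Subtype.val hc
  have hab' : a' * b' = b' * a' := by
    calc a' * b' = g⁻¹ * (g * a' * g⁻¹ * (g * b' * g⁻¹)) * g := by group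
      _ = b' * a' := by rw [hc']; group
  have h := (S.commute_iff ha' hb').1 hab'
  rw [hae, hbe, Bp_dc a.isLt b.isLt, hab] at h
  exact absurd h (by decide)

/-- A singular Siegel map is realised by involutions. -/
theorem sq_singular {y : G} (hy : y ∈ oc w) (hyz : y * z = z * y)
    (hyv : ∀ u, (S.act y).1 u = sg (dc 2) u) : y * y = 1 := by
  obtain ⟨g, hg, hm, h0, htr⟩ := transport F
  have hq : qn (cd (S.pr (g⁻¹ * z * g))).val = false := by
    rw [← bz_eq_zero, ← q_dc (cd _).isLt, dc_cd]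
    refine zp_inj S.zne ?_
    rw [← S.pr_sq _ hm, zp_zero]
    calc g⁻¹ * z * g * (g⁻¹ * z * g) = g⁻¹ * (z * z) * g := by group
      _ = 1 := by rw [S.zz]; group
  obtain ⟨a, haq, hav, ha0, hane⟩ := perp_singular _
    (fun e => h0 (by rw [← dc_cd (S.pr (g⁻¹ * z * g)), e, dc_zero])) hq
  obtain ⟨a', ha', hae⟩ := S.pr_surj (dc a.val)
  have hca : a' * (g⁻¹ * z * g) = g⁻¹ * z * g * a' := (S.commute_iff ha' hm).2 (by
    rw [hae, ← dc_cd (S.pr (g⁻¹ * z * g)), Bp_dc a.isLt (cd _).isLt, hav]; rfl)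
  obtain ⟨u1, u2⟩ := htr a' ha' hca
  set x := g * a' * g⁻¹ with hx
  have hx2 : x * x = 1 := by
    have h : a' * a' = 1 := by rw [S.pr_sq a' ha', hae, q_dc a.isLt, haq]; exact zp_zero z
    calc x * x = g * (a' * a') * g⁻¹ := by rw [hx]; group
      _ = 1 := by rw [h]; group
  obtain ⟨v, hv, hxv⟩ := act_sg F u1 u2
  have hne : v ≠ 0 ∧ v ≠ dc 1 := by
    rw [← not_or]
    intro h
    have hid : S.act x = 1 := ext_oG fun u => by
      rcases h with rfl | rfl
      · rw [hxv, sg_zero, oG_one_apply]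
      · rw [hxv, sg_e, oG_one_apply]
    have hmz := S.pr_mul _ hm _ S.zmem
    rw [S.pr_z, add_zero] at hmz
    have hfour : ∀ m : G, m = g⁻¹ * z * g ∨ m = z ∨ m = g⁻¹ * z * g * z ∨ m = 1 →
        S.pr m = 0 ∨ S.pr m = S.pr (g⁻¹ * z * g) := by
      rintro m (rfl | rfl | rfl | rfl)
      exacts [Or.inr rfl, Or.inl S.pr_z, Or.inr hmz, Or.inl S.pr_one]
    have hback : a' = g⁻¹ * x * g := by rw [hx]; group
    rcases hfour a' (by
      rcases inter F (S.act_ker x u2 hid) u1 with e | e | e | e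
      · exact Or.inr (Or.inr (Or.inr (by rw [hback, e]; group)))
      · exact Or.inl (by rw [hback, e])
      · exact Or.inr (Or.inl (by rw [hback, e, ← hg]; group))
      · refine Or.inr (Or.inr (Or.inl ?_))
        rw [hback, e, wz F, ← hg]; group) with e | e
    · rw [hae, ← dc_zero] at e
      exact ha0 (dc_inj a.isLt (by norm_num) e)
    · rw [hae, ← dc_cd (S.pr (g⁻¹ * z * g))] at e
      exact hane (dc_inj a.isLt (cd _).isLt e)
  by_cases hqv : qn (cd v).val = true
  · obtain ⟨y', hy', hy'z, hy'v⟩ := exists_sg F (v := dc 16)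
      (by rw [Bp_dc (by norm_num) (by norm_num)]; rfl)
    have h := sq_rep F u1 u2 hxv hv hne.1 hne.2 hy' hy'z fun u => by rw [hy'v, hqv, if_pos rfl]
    exact absurd (h ▸ hx2) (sq_nonsingular F hy' hy'z hy'v)
  · rw [← sq_rep F u1 u2 hxv hv hne.1 hne.2 hy hyz fun u => by rw [hyv, if_neg hqv], hx2]

end Suz

end Cfsg.Agent.SuzType
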