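import Cfsg.Agent.SuzType.Frame

/-!
Involutions: one class containing `z`, and exactly one further class.
-/

set_option autoImplicit false

open Cfsg Cfsg.Agent.ThreeTrans.OrthCohom Cfsg.Agent.Classical.Quad QuadraticMap Cfsg.Agent.LargeExtra

namespace Cfsg.Agent.SuzType

theorem lam_xor : ∀ a b : Bool, ∀ i j : Fin 64, lam a b (i.val ^^^ j.val) = (lam a b i.val != lam a b j.val) := by
  decide +kernel

theorem lam_gens : ∀ a b : Bool, lam a b 1 = false ∧ lam a b 2 = a ∧ lam a b 8 = b ∧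
    lam a b 16 = true ∧ lam a b 17 = true := by decide +kernel

theorem C2_split : ∀ i : Fin 64, C2 i.val = true →
    i.val = ((i.val &&& 1) ^^^ (i.val &&& 16)) ^^^ ((i.val &&& 2) ^^^ (i.val &&& 8)) := by decide +kernel

theorem C2_xor : ∀ i j : Fin 64, C2 i.val = true → C2 j.val = true → C2 (i.val ^^^ j.val) = true := by
  decide +kernel

theorem lamBasis_spec : ∀ a b : Bool, ∀ k ∈ lamBasis a b, k < 64 ∧ C2 k = true ∧ lam a b k = false := by
  decide +kernel

theorem range1 : ∀ v : Fin 64, sgn 2 v.val ^^^ v.val ∈ [0, 1, 2, 3] := by decide +kernel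

theorem range2 : ∀ v : Fin 64, sgn 16 v.val ^^^ v.val ∈ [0, 1, 16, 17] := by decide +kernel

theorem C1_perp : ∀ v : Fin 64, C1 v.val = true → Bn v.val 1 = false := by decide +kernel

theorem g1_C1 : ∀ v : Fin 64, C1 v.val = true → C1 (g2n 16 32 v.val) = true := by decide +kernel

theorem g2_C2 : ∀ v : Fin 64, C2 v.val = true → C2 (g2n 10 18 v.val) = true := by decide +kernel

variable {G : Type*} [Group G] [Finite G]

namespace Suz

variable {z : G} (S : Suz z)
include S

/-- The commutator of an element of the centraliser with one of `oc z`, when it is central. -/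
theorem com_zp {u a : G} (hu : u * z = z * u) (ha : a ∈ oc z) (h : (S.act u).1 (S.pr a) = S.pr a) :
    ∃ e, u * a * u⁻¹ * a⁻¹ = zp z e := by
  have hm := mul_mem (S.nrm hu ha) (inv_mem ha)
  rcases S.pr_ker _ hm (by
      rw [S.pr_mul _ (S.nrm hu ha) _ (inv_mem ha), S.act_spec u hu a ha, S.pr_inv ha, h, v_add_self])
    with e | e
  · exact ⟨0, by rw [e, zp_zero]⟩
  · exact ⟨1, by rw [e, zp_one]⟩

theorem com_mul {u a b : G} (ha : a ∈ oc z) {e f : ZMod 2} (he : u * a * u⁻¹ * a⁻¹ = zp z e)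
    (hf : u * b * u⁻¹ * b⁻¹ = zp z f) : u * (a * b) * u⁻¹ * (a * b)⁻¹ = zp z (e + f) := by
  calc u * (a * b) * u⁻¹ * (a * b)⁻¹ = u * a * u⁻¹ * (u * b * u⁻¹ * b⁻¹) * a⁻¹ := by group
    _ = u * a * u⁻¹ * (a⁻¹ * zp z f) := by
      rw [hf, mul_assoc _ (zp z f), S.comm_zp (S.comm (inv_mem ha)) f]
    _ = zp z (e + f) := by rw [← mul_assoc, he, zp_add S.zz]

/-- An involution of the centraliser inverts the commutators it makes. -/
theorem com_range {u r : G} (hu : u * z = z * u) (h2 : u * u = 1) (hr : r ∈ oc z) :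
    u * (u * r * u⁻¹ * r⁻¹) * u⁻¹ * (u * r * u⁻¹ * r⁻¹)⁻¹ =
      zp z (qM 2 ((S.act u).1 (S.pr r) + S.pr r)) := by
  set a := u * r * u⁻¹ * r⁻¹ with ha
  have hm : a ∈ oc z := mul_mem (S.nrm hu hr) (inv_mem hr)
  have hp : S.pr a = (S.act u).1 (S.pr r) + S.pr r := by
    rw [ha, S.pr_mul _ (S.nrm hu hr) _ (inv_mem hr), S.act_spec u hu r hr, S.pr_inv hr]
  have hui : u⁻¹ = u := inv_eq_of_mul_eq_one_right h2
  have hinv : u * a * u⁻¹ = a⁻¹ := by
    rw [ha, hui]
    calc u * (u * r * u * r⁻¹) * u = u * u * (r * u * r⁻¹ * u) := by group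
      _ = (u * r * u * r⁻¹)⁻¹ := by rw [h2, mul_inv_rev, mul_inv_rev, mul_inv_rev, inv_inv, hui]; group
  rw [hinv, ← hp]
  refine (eq_inv_of_mul_eq_one_left ?_).trans (inv_eq_of_mul_eq_one_right (S.zp_sq _))
  rw [← S.pr_sq a hm]
  group

theorem sq_mul {u a : G} (hu : u * z = z * u) (ha : a ∈ oc z) (hsq : u * u = 1 ∨ u * u = z)
    {e : ZMod 2} (he : u * a * u⁻¹ * a⁻¹ = zp z e) :
    u * a * (u * a) = zp z e * zp z (qM 2 (S.pr a)) * (u * u) := by
  have hc : ∀ x, x * z = z * x → x * (u * u) = u * u * x := fun x hx => by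
    rcases hsq with h | h <;> rw [h]
    · simp
    · exact hx
  calc u * a * (u * a) = u * a * u⁻¹ * ((u * u) * a) := by group
    _ = u * a * u⁻¹ * (a * (u * u)) := by rw [hc a (S.comm ha)]
    _ = (u * a * u⁻¹ * a⁻¹) * (a * a) * (u * u) := by group
    _ = zp z e * zp z (qM 2 (S.pr a)) * (u * u) := by rw [he, S.pr_sq a ha]

/-- Involutions outside `oc z` are conjugate in the centraliser to standard ones. -/
theorem classify {t : G} (ht : t * z = z * t) (h2 : t * t = 1) (hn : t ∉ oc z) :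
    ∃ c, c * z = z * c ∧ ((∀ x, (S.act (c * t * c⁻¹)).1 x = sg (dc 2) x) ∨
      ∀ x, (S.act (c * t * c⁻¹)).1 x = sg (dc 16) x) := by
  have hAA : S.act t * S.act t = 1 := by rw [← S.act_mul ht ht, h2, S.act_one]
  obtain ⟨p, hp0, hpq, hpf, hpn⟩ := exists_singular_axis _ hAA (fun e => hn (S.act_ker t ht e))
    (S.act_even t ht)
  obtain ⟨a, ha, b, hb, hab⟩ := trans_e (cd p) (fun e => hp0 (by rw [← dc_cd p, e, dc_zero]))
    (by rw [← bz_eq_zero, ← q_dc (cd p).isLt, dc_cd]; exact hpq)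
  obtain ⟨r, hr, hract⟩ := exists_rr a.isLt b.isLt ha hb
  obtain ⟨c, hc, rfl⟩ := S.act_surj r hr
  have hpe : (S.act c).1 p = dc 1 := by rw [← dc_cd p, hract _ (cd p).isLt, hab]
  have hci := (Commute.inv_left hc).eq
  set t' := c * t * c⁻¹ with ht'
  have ht'z : t' * z = z * t' := ((Commute.mul_left hc ht).mul_left (Commute.inv_left hc)).eq
  have hconj : ∀ x, (S.act t').1 ((S.act c).1 x) = (S.act c).1 ((S.act t).1 x) := fun x => by
    rw [ht', S.act_mul (Commute.mul_left hc ht).eq hci, S.act_mul hc ht, S.act_inv hc, oG_mul_apply,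
      oG_mul_apply, oG_inv_apply]
  obtain ⟨v, hv, hv'⟩ := exists_sgn (S.act t') (by rw [← hpe, hconj, hpf]) fun y hy => by
    obtain ⟨x, rfl⟩ := (S.act c).1.surjective y
    rw [← hpe, show Bp ((S.act c).1 x) ((S.act c).1 p) = Bp x p from polar_g _ _ _] at hy
    rcases hpn x hy with e | e
    · exact Or.inl (by rw [hconj, ← map_add, e, map_zero])
    · exact Or.inr (by rw [hconj, ← map_add, e, hpe])
  have hsg : ∀ x, (S.act t').1 x = sg (dc v.val) x := fun x => by
    rw [← dc_cd x, hv' _ (cd x).isLt, sg_dc v.isLt (cd x).isLt]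
  have hne : ∀ x : V, (x = 0 ∨ x = dc 1) → dc v.val ≠ x := by
    intro x hx e
    refine hn (S.act_ker t ht (ext_oG fun y => (S.act c).1.injective ?_))
    rw [← hconj, hsg, e, oG_one_apply]
    rcases hx with rfl | rfl
    · rw [sg_zero]
    · rw [sg_e]
  obtain ⟨a', ⟨ha', ha1⟩, b', ⟨hb', hb1⟩, hab'⟩ := stab_orbit v hv
    (fun e => hne 0 (Or.inl rfl) (by rw [e, dc_zero])) (fun e => hne _ (Or.inr rfl) (by rw [e]))
  obtain ⟨r', hr', hract'⟩ := exists_rr a'.isLt b'.isLt ha' hb'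
  have hsym : ∀ i : Fin 64, Bn 1 i.val = Bn i.val 1 := by decide +kernel
  have he : r'.1 (dc 1) = dc 1 := by
    rw [hract' 1 (by norm_num)]
    congr 1
    simp [g2n, hsym, hb1, ha1]
  obtain ⟨d, hd, rfl⟩ := S.act_surj r' hr'
  have hdi := (Commute.inv_left hd).eq
  refine ⟨d * c, (Commute.mul_left hd hc).eq, ?_⟩
  rw [show d * c * t * (d * c)⁻¹ = d * t' * d⁻¹ by rw [ht']; group]
  have hgen : ∀ m : ℕ, m < 64 → dc m = (S.act d).1 (dc v.val) ∨ dc m = (S.act d).1 (dc v.val) + dc 1 →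
      ∀ x, (S.act (d * t' * d⁻¹)).1 x = sg (dc m) x := fun m hm h x => by
    rw [S.act_mul (Commute.mul_left hd ht'z).eq hdi, S.act_mul hd ht'z, S.act_inv hd, oG_mul_apply,
      oG_mul_apply, hsg, sg_equiv _ he, oG_apply_inv]
    rcases h with e | e <;> rw [e]
    rw [← sg_comp ?_ (by rw [Bp_dc (by norm_num) (by norm_num)]; rfl), sg_e]
    rw [← he, polar_g, Bp_dc v.isLt (by norm_num), hv]
    rfl
  rw [hract' _ v.isLt] at hgen
  rcases Bool.dichotomy (qn v.val) with hq | hq <;> rw [hq] at hab'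
  · refine Or.inl (hgen 2 (by norm_num) ?_)
    rcases hab' with e | e <;> rw [e]
    · exact Or.inl rfl
    · exact Or.inr (by decide +kernel)
  · refine Or.inr (hgen 16 (by norm_num) ?_)
    rcases hab' with e | e <;> rw [e]
    · exact Or.inl rfl
    · exact Or.inr (by decide +kernel)

variable {S} {w : G} (F : S.Fr w)
include F

theorem lift_small {a : G} (ha : a ∈ oc z) {i : ℕ} (hi : S.pr a = dc i) (h : i = 0 ∨ i = 1) :
    a ∈ oc w ∧ a * a = 1 := by
  have hz := zmem_oc F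
  have hwm := mem_oc_self (wset F).ord
  have hmem : a ∈ oc w := by
    rcases h with rfl | rfl
    · rcases S.pr_ker a ha (by rw [hi, dc_zero]) with rfl | rfl
      exacts [one_mem _, hz]
    · rcases S.pr_eq F.mem ha (F.pr_eq.trans hi.symm) with rfl | rfl
      exacts [hwm, mul_mem hwm hz]
  exact ⟨hmem, inter_sq F ha hmem⟩

/-- Outer involutions of the first type are conjugate to `z`. -/
theorem conj_first {u : G} (hu : u * z = z * u) (h2 : u * u = 1)
    (hA : ∀ y, (S.act u).1 y = sg (dc 2) y) : IsConj z u := by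
  obtain ⟨x, hx, hxz, hxA⟩ := exists_sg F (v := dc 2) (by rw [Bp_dc (by norm_num) (by norm_num)]; rfl)
  have hx2 := sq_singular F hx hxz hxA
  have hxi : x⁻¹ = x := inv_eq_of_mul_eq_one_right hx2
  have hx1 : x ≠ 1 := fun e => by
    have h := hxA (dc 4)
    rw [e, S.act_one, oG_one_apply, sg_dc (by norm_num) (by norm_num)] at h
    exact absurd (dc_inj (by norm_num) (sgn_lt (by norm_num) (by norm_num)) h) (by decide +kernel)
  have hact : ∀ i, i < 64 → (S.act x).1 (dc i) = dc (sgn 2 i) := fun i hi => by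
    rw [hxA, sg_dc (by norm_num) hi]
  obtain ⟨r, hr, hre⟩ := S.pr_surj (dc 4)
  set q1 := x * r * x⁻¹ * r⁻¹ with hq1
  have hq1m : q1 ∈ oc z := mul_mem (S.nrm hxz hr) (inv_mem hr)
  have hq1p : S.pr q1 = dc 2 := by
    rw [hq1, S.pr_mul _ (S.nrm hxz hr) _ (inv_mem hr), S.act_spec x hxz r hr, S.pr_inv hr, hre,
      hact 4 (by norm_num), ← dc_xor (sgn_lt (by norm_num) (by norm_num)) (by norm_num)]
    congr 1
  have hfixv : ∀ i : Fin 64, C1 i.val = true → (S.act x).1 (dc i.val) = dc i.val := fun i hi => by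
    rw [hact _ i.isLt, (fix1 i).2 hi]
  have hq1c : x * q1 * x⁻¹ * q1⁻¹ = zp z 0 := by
    rw [hq1, S.com_range hxz hx2 hr, hre, hact 4 (by norm_num),
      ← dc_xor (sgn_lt (by norm_num) (by norm_num)) (by norm_num),
      q_dc (xor_lt (sgn_lt (by norm_num) (by norm_num)) (by norm_num))]
    rfl
  have hsmall : ∀ a ∈ oc z, ∀ i ∈ [0, 1, 2, 3], S.pr a = dc i → x * a * x⁻¹ * a⁻¹ = zp z 0 := by
    have hk : ∀ k ∈ oc z, k ∈ oc w → x * k * x⁻¹ * k⁻¹ = zp z 0 := fun k hk hk' => by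
      rw [zp_zero, inter_comm F hk hk' hxz (comm_w F hx)]; group
    intro a ha i hi hpr
    simp only [List.mem_cons, List.not_mem_nil, or_false] at hi
    rcases hi with rfl | rfl | rfl | rfl
    · exact hk a ha (lift_small F ha hpr (Or.inl rfl)).1
    · exact hk a ha (lift_small F ha hpr (Or.inr rfl)).1
    · rcases S.pr_eq hq1m ha (hq1p.trans hpr.symm) with rfl | rfl
      · exact hq1c
      · rw [S.com_mul hq1m hq1c (hk z S.zmem (zmem_oc F)), add_zero]
    · have hm := mul_mem (inv_mem hq1m) ha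
      have hp : S.pr (q1⁻¹ * a) = dc 1 := by
        rw [S.pr_mul _ (inv_mem hq1m) _ ha, S.pr_inv hq1m, hq1p, hpr,
          ← dc_xor (by norm_num) (by norm_num)]
        rfl
      rw [show a = q1 * (q1⁻¹ * a) by group,
        S.com_mul hq1m hq1c (hk _ hm (lift_small F hm hp (Or.inr rfl)).1), add_zero]
  obtain ⟨g, hg, hgact⟩ := exists_rr (a := 16) (b := 32) (by norm_num) (by norm_num) rfl rfl
  have hg1 : g.1 (dc 1) = dc 1 := by rw [hgact 1 (by norm_num)]; rfl
  have hg2 : g.1 (dc 2) = dc 2 := by rw [hgact 2 (by norm_num)]; rfl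
  obtain ⟨c, hc, hcw, rfl⟩ := exists_stab F g hg hg1
  have hci := (Commute.inv_left hc).eq
  have hall : ∀ a ∈ oc z, ∀ i : Fin 64, S.pr a = dc i.val → C1 i.val = true →
      x * a * x⁻¹ * a⁻¹ = zp z 0 := by
    intro a ha i hi hC
    obtain ⟨i', hi', hmem⟩ := gen1 i hC
    obtain ⟨b, hb, hbe⟩ := S.pr_surj (dc i'.val)
    obtain ⟨e, he⟩ := S.com_zp hxz hb (by rw [hbe]; exact hfixv i' hi')
    have hbw : b * w = w * b := (S.commute_iff hb F.mem).2 (by
      rw [hbe, F.pr_eq, Bp_dc i'.isLt (by norm_num), C1_perp i' hi']; rfl)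
    have hx' := nrm_w F hcw hx
    have hx'z : c * x * c⁻¹ * z = z * (c * x * c⁻¹) :=
      ((Commute.mul_left hc hxz).mul_left (Commute.inv_left hc)).eq
    obtain ⟨k, hk, hk', hxk⟩ := same_act F hx hxz hx' hx'z fun y => by
      rw [S.act_mul (Commute.mul_left hc hxz).eq hci, S.act_mul hc hxz, S.act_inv hc, oG_mul_apply,
        oG_mul_apply, hxA, hxA, sg_equiv _ hg1, oG_apply_inv, hg2]
    set b' := c * b * c⁻¹ with hb'
    have hb'w : b' * w = w * b' := ((Commute.mul_left hcw hbw).mul_left (Commute.inv_left hcw)).eq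
    have hb'm : b' ∈ oc z := S.nrm hc hb
    have hkb : b' * k = k * b' := inter_comm F hk hk' (S.comm hb'm) hb'w
    have hb'e : x * b' * x⁻¹ * b'⁻¹ = zp z e := by
      calc x * b' * x⁻¹ * b'⁻¹ = x * (b' * k * k⁻¹) * x⁻¹ * b'⁻¹ := by group
        _ = x * k * b' * (x * k)⁻¹ * b'⁻¹ := by rw [hkb]; group
        _ = c * (x * b * x⁻¹ * b⁻¹) * c⁻¹ := by rw [← hxk, hb']; group
        _ = zp z e := by rw [he, S.comm_zp hc e, mul_inv_cancel_right]
    have hbb := mul_mem hb'm hb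
    have h0 : x * (b' * b) * x⁻¹ * (b' * b)⁻¹ = zp z 0 := by
      rw [S.com_mul hb'm hb'e he, (by decide : ∀ e : ZMod 2, e + e = 0)]
    have hgl := g2n_lt (a := 16) (b := 32) (by norm_num) (by norm_num) i'.isLt
    have hm : (b' * b)⁻¹ * a ∈ oc z := mul_mem (inv_mem hbb) ha
    have hp : S.pr ((b' * b)⁻¹ * a) = dc (i.val ^^^ (g2n 16 32 i'.val ^^^ i'.val)) := by
      rw [S.pr_mul _ (inv_mem hbb) _ ha, S.pr_inv hbb, S.pr_mul _ hb'm _ hb, hi, hbe, hb',
        S.act_spec c hc b hb, hbe, hgact _ i'.isLt, ← dc_xor hgl i'.isLt,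
        ← dc_xor (xor_lt hgl i'.isLt) i.isLt, Nat.xor_comm]
    rw [show a = b' * b * ((b' * b)⁻¹ * a) by group,
      S.com_mul hbb h0 (hsmall _ hm _ hmem hp), add_zero]
  -- decompose `u`
  have hq : x⁻¹ * u ∈ oc z := S.act_ker _ (Commute.mul_left (Commute.inv_left hxz) hu).eq (by
    rw [S.act_mul (Commute.inv_left hxz).eq hu, S.act_inv hxz, ext_oG (g := S.act u) (h := S.act x)
      (fun y => by rw [hA, hxA]), inv_mul_cancel])
  set q := x⁻¹ * u with hqd
  set j := cd (S.pr q) with hj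
  have hqj : S.pr q = dc j.val := (dc_cd _).symm
  have huq : x * q = u := by rw [hqd]; group
  have hconjq : x * q * x⁻¹ = q⁻¹ := by
    refine eq_inv_of_mul_eq_one_left ?_
    rw [huq, hxi, mul_assoc, huq, h2]
  have hfq : C1 j.val = true := by
    refine (fix1 j).1 (dc_inj (sgn_lt (by norm_num) j.isLt) j.isLt ?_)
    rw [← hact _ j.isLt, ← hqj, ← S.act_spec x hxz q hq, hconjq, S.pr_inv hq]
  have hqq : qn j.val = false := by
    have h := hall q hq j hqj hfq
    rw [hconjq, zp_zero] at h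
    rw [← bz_eq_zero, ← q_dc j.isLt, ← hqj]
    refine zp_inj S.zne ?_
    rw [← S.pr_sq q hq, zp_zero]
    calc q * q = (q⁻¹ * q⁻¹)⁻¹ := by rw [mul_inv_rev, inv_inv]
      _ = 1 := by rw [h, inv_one]
  have hxk : ∀ k ∈ oc z, k ∈ oc w → IsConj z (x * k) := fun k hk hk' => by
    refine conj_of_invol F (mul_mem hx hk') ?_ fun e => ?_
    · calc x * k * (x * k) = x * (k * x) * k := by group
        _ = x * x * (k * k) := by rw [← inter_comm F hk hk' hxz (comm_w F hx)]; group
        _ = 1 := by rw [hx2, inter_sq F hk hk', one_mul]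
    · have hxQ : x ∈ oc z := by
        rw [eq_inv_of_mul_eq_one_left e]; exact inv_mem hk
      have h := hxA (dc 4)
      rw [S.act_inner hxQ, oG_one_apply, sg_dc (by norm_num) (by norm_num)] at h
      exact absurd (dc_inj (by norm_num) (sgn_lt (by norm_num) (by norm_num)) h) (by decide +kernel)
  have hcase := fix1_sing j hfq hqq
  simp only [List.mem_cons, List.not_mem_nil, or_false] at hcase
  rw [← huq]
  by_cases hs : j.val = 0 ∨ j.val = 1
  · exact hxk q hq (lift_small F hq hqj hs).1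
  · have hm := mul_mem (inv_mem hq1m) hq
    have hp : S.pr (q1⁻¹ * q) = dc (2 ^^^ j.val) := by
      rw [S.pr_mul _ (inv_mem hq1m) _ hq, S.pr_inv hq1m, hq1p, hqj, ← dc_xor (by norm_num) j.isLt]
    have hk' : q1⁻¹ * q ∈ oc w := (lift_small F hm hp (by
      rcases hcase with e | e | e | e <;> rw [e] at hs ⊢
      · exact absurd (Or.inl rfl) hs
      · exact absurd (Or.inr rfl) hs
      · exact Or.inl rfl
      · exact Or.inr rfl)).1
    set k := q1⁻¹ * q
    have hk'' : r⁻¹ * k * r ∈ oc w ∧ r⁻¹ * k * r ∈ oc z := by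
      have hm' : r⁻¹ * k * r ∈ oc z := mul_mem (mul_mem (inv_mem hr) hm) hr
      refine ⟨?_, hm'⟩
      have hp' : S.pr (r⁻¹ * k * r) = dc (2 ^^^ j.val) := by
        rw [S.pr_mul _ (mul_mem (inv_mem hr) hm) _ hr, S.pr_mul _ (inv_mem hr) _ hm, S.pr_inv hr,
          add_comm (S.pr r), add_assoc, v_add_self, add_zero, hp]
      exact (lift_small F hm' hp' (by
        rcases hcase with e | e | e | e <;> rw [e] at hs ⊢
        · exact absurd (Or.inl rfl) hs
        · exact absurd (Or.inr rfl) hs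
        · exact Or.inl rfl
        · exact Or.inr rfl)).1
    refine (hxk _ hk''.2 hk''.1).trans (isConj_iff.2 ⟨r, ?_⟩)
    calc r * (x * (r⁻¹ * k * r)) * r⁻¹ = (x * x) * (r * x * r⁻¹) * k := by rw [hx2]; group
      _ = x * (x * r * x * r⁻¹) * k := by
        rw [show r * x * r⁻¹ = r * x⁻¹ * r⁻¹ by rw [hxi]]
        calc x * x * (r * x⁻¹ * r⁻¹) * k = x * (x * r * x⁻¹ * r⁻¹) * k := by group
          _ = _ := by rw [hxi]
      _ = x * (q1 * k) := by rw [hq1, hxi]; group
      _ = x * q := by rw [show q1 * k = q from mul_inv_cancel_left q1 q]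

/-- The functional of an outer involution of the second type. -/
theorem exists_lam {u : G} (hu : u * z = z * u) (h2 : u * u = 1 ∨ u * u = z)
    (hA : ∀ y, (S.act u).1 y = sg (dc 16) y) :
    u * u = z ∨ ∃ α β : Bool, ∀ a ∈ oc z, ∀ i : Fin 64, S.pr a = dc i.val → C2 i.val = true →
      u * a * u⁻¹ * a⁻¹ = zp z (bz (lam α β i.val)) := by
  rcases h2 with h2 | h2
  swap
  · exact Or.inl h2
  refine Or.inr ?_
  have hact : ∀ i, i < 64 → (S.act u).1 (dc i) = dc (sgn 16 i) := fun i hi => by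
    rw [hA, sg_dc (by norm_num) hi]
  have hfix : ∀ i : Fin 64, C2 i.val = true → (S.act u).1 (dc i.val) = dc i.val := fun i hi => by
    rw [hact _ i.isLt, (fix2 i).2 hi]
  obtain ⟨a2, ha2, he2⟩ := S.pr_surj (dc 2)
  obtain ⟨a8, ha8, he8⟩ := S.pr_surj (dc 8)
  obtain ⟨e2, hc2⟩ := S.com_zp hu ha2 (by rw [he2]; exact hfix ⟨2, by norm_num⟩ (by decide))
  obtain ⟨e8, hc8⟩ := S.com_zp hu ha8 (by rw [he8]; exact hfix ⟨8, by norm_num⟩ (by decide))
  obtain ⟨α, hα⟩ : ∃ α, bz α = e2 := (by decide : ∀ e : ZMod 2, ∃ α, bz α = e) e2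
  obtain ⟨β, hβ⟩ : ∃ β, bz β = e8 := (by decide : ∀ e : ZMod 2, ∃ β, bz β = e) e8
  refine ⟨α, β, ?_⟩
  let P : ℕ → Prop := fun i => ∀ a ∈ oc z, S.pr a = dc i → u * a * u⁻¹ * a⁻¹ = zp z (bz (lam α β i))
  have hz0 : u * z * u⁻¹ * z⁻¹ = zp z 0 := by rw [hu, zp_zero]; group
  have hone : ∀ i, ∀ b ∈ oc z, S.pr b = dc i → u * b * u⁻¹ * b⁻¹ = zp z (bz (lam α β i)) → P i := by
    intro i b hb hbe hbc a ha hae
    rcases S.pr_eq hb ha (hbe.trans hae.symm) with rfl | rfl
    · exact hbc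
    · rw [S.com_mul hb hbc hz0, add_zero]
  obtain ⟨hl1, hl2, hl8, hl16, hl17⟩ := lam_gens α β
  have h0 : P 0 := hone 0 1 (one_mem _) (by rw [S.pr_one, dc_zero]) (by
    rw [show lam α β 0 = false by rcases α with _ | _ <;> rcases β with _ | _ <;> rfl]
    simp [bz, zp_zero])
  have hrange : ∀ k m, k < 64 → sgn 16 k ^^^ k = m → bz (qn m) = bz (lam α β m) → P m := by
    intro k m hk hkm hq
    obtain ⟨r, hr, hre⟩ := S.pr_surj (dc k)
    refine hone m (u * r * u⁻¹ * r⁻¹) (mul_mem (S.nrm hu hr) (inv_mem hr)) ?_ ?_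
    · rw [S.pr_mul _ (S.nrm hu hr) _ (inv_mem hr), S.act_spec u hu r hr, S.pr_inv hr, hre, hact k hk,
        ← dc_xor (sgn_lt (by norm_num) hk) hk, hkm]
    · rw [S.com_range hu h2 hr, hre, hact k hk, ← dc_xor (sgn_lt (by norm_num) hk) hk,
        q_dc (xor_lt (sgn_lt (by norm_num) hk) hk), hkm, hq]
  have h1 : P 1 := hrange 32 1 (by norm_num) (by decide +kernel) (by rw [hl1]; decide +kernel)
  have h16 : P 16 := hrange 36 16 (by norm_num) (by decide +kernel) (by rw [hl16]; decide +kernel)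
  have h2' : P 2 := hone 2 a2 ha2 he2 (by rw [hc2, hl2, hα])
  have h8 : P 8 := hone 8 a8 ha8 he8 (by rw [hc8, hl8, hβ])
  have hsum : ∀ i j, i < 64 → j < 64 → P i → P j → P (i ^^^ j) := by
    intro i j hi hj hPi hPj
    obtain ⟨a, ha, hae⟩ := S.pr_surj (dc i)
    obtain ⟨b, hb, hbe⟩ := S.pr_surj (dc j)
    refine hone _ (a * b) (mul_mem ha hb) (by rw [S.pr_mul _ ha _ hb, hae, hbe, dc_xor hi hj]) ?_
    rw [S.com_mul ha (hPi a ha hae) (hPj b hb hbe), show lam α β (i ^^^ j) = _ from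
      lam_xor α β ⟨i, hi⟩ ⟨j, hj⟩]
    congr 1
    rcases lam α β i with _ | _ <;> rcases lam α β j with _ | _ <;> rfl
  intro a ha i hi hC
  have hp : ∀ k ∈ [1, 2, 8, 16], P (i.val &&& k) ∧ i.val &&& k < 64 := fun k hk => by
    refine ⟨?_, lt_of_le_of_lt Nat.and_le_left i.isLt⟩
    rcases part_cases i k (by revert k; decide) with e | e <;> rw [e]
    · exact h0
    · simp only [List.mem_cons, List.not_mem_nil, or_false] at hk
      rcases hk with rfl | rfl | rfl | rfl
      exacts [h1, h2', h8, h16]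
  obtain ⟨p1, l1⟩ := hp 1 (by simp)
  obtain ⟨p2, l2⟩ := hp 2 (by simp)
  obtain ⟨p8, l8⟩ := hp 8 (by simp)
  obtain ⟨p16, l16⟩ := hp 16 (by simp)
  have := hsum _ _ (xor_lt l1 l16) (xor_lt l2 l8) (hsum _ _ l1 l16 p1 p16) (hsum _ _ l2 l8 p2 p8)
  rw [← C2_split i hC] at this
  exact this a ha hi

/-- Outer involutions of the second type form one class. -/
theorem conj_second {u u' : G} (hu : u * z = z * u) (h2 : u * u = 1)
    (hA : ∀ y, (S.act u).1 y = sg (dc 16) y) (hu' : u' * z = z * u') (h2' : u' * u' = 1)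
    (hA' : ∀ y, (S.act u').1 y = sg (dc 16) y) : IsConj u u' := by
  obtain ⟨α, β, hl⟩ := (exists_lam F hu (Or.inl h2) hA).resolve_left (fun e => S.zne (e.symm.trans h2))
  have hact : ∀ i, i < 64 → (S.act u).1 (dc i) = dc (sgn 16 i) := fun i hi => by
    rw [hA, sg_dc (by norm_num) hi]
  obtain ⟨hl1, hl2, hl8, hl16, hl17⟩ := lam_gens α β
  -- involutions of the coset
  have hcode : ∀ q ∈ oc z, ∀ i : Fin 64, S.pr q = dc i.val → u * q * (u * q) = 1 →
      C2 i.val = true ∧ lam α β i.val = qn i.val := by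
    intro q hq i hi h
    have hconj : u * q * u⁻¹ = q⁻¹ := by
      refine eq_inv_of_mul_eq_one_left ?_
      rw [inv_eq_of_mul_eq_one_right h2, mul_assoc, h]
    have hC : C2 i.val = true := by
      refine (fix2 i).1 (dc_inj (sgn_lt (by norm_num) i.isLt) i.isLt ?_)
      rw [← hact _ i.isLt, ← hi, ← S.act_spec u hu q hq, hconj, S.pr_inv hq]
    refine ⟨hC, bz_inj _ _ ?_⟩
    rw [S.sq_mul hu hq (Or.inl h2) (hl q hq i hi hC), h2, mul_one, ← zp_add S.zz, hi, q_dc i.isLt] at h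
    have := zp_inj S.zne (h.trans (zp_zero z).symm)
    exact (by decide : ∀ a b : ZMod 2, a + b = 0 → a = b) _ _ this
  let R : ℕ → Prop := fun i => ∀ q ∈ oc z, S.pr q = dc i → u * q * (u * q) = 1 → IsConj u (u * q)
  have huz : IsConj u (u * z) := by
    obtain ⟨r, hr, hre⟩ := S.pr_surj (dc 17)
    have h : u * r * u⁻¹ * r⁻¹ = z := by
      rw [hl r hr ⟨17, by norm_num⟩ hre (by decide +kernel)]
      show zp z (bz (lam α β 17)) = z
      rw [hl17]
      exact zp_one z
    refine isConj_iff.2 ⟨r, ?_⟩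
    calc r * u * r⁻¹ = u * (u⁻¹ * r * u * r⁻¹) := by group
      _ = u * z := by
        rw [inv_eq_of_mul_eq_one_right h2]
        rw [inv_eq_of_mul_eq_one_right h2] at h
        rw [h]
  have hR0 : R 0 := by
    intro q hq hq0 _
    rcases S.pr_ker q hq (by rw [hq0, dc_zero]) with rfl | rfl
    · rw [mul_one]
    · exact huz
  have hRm : ∀ k, k < 64 → ∀ i, i < 64 → R i → R (i ^^^ (sgn 16 k ^^^ k)) := by
    intro k hk i hi hRi q hq hqe h
    obtain ⟨r, hr, hre⟩ := S.pr_surj (dc k)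
    set q' := u⁻¹ * r * u * q * r⁻¹ with hq'
    have hui : u⁻¹ * z = z * u⁻¹ := (Commute.inv_left hu).eq
    have hA1 : u⁻¹ * r * u ∈ oc z := by
      have := S.nrm hui hr
      rwa [inv_inv] at this
    have hq'm : q' ∈ oc z := mul_mem (mul_mem hA1 hq) (inv_mem hr)
    have hp : S.pr q' = dc i := by
      have hm' := sgn_lt (w := 16) (by norm_num) hk
      rw [hq', S.pr_mul _ (mul_mem hA1 hq) _ (inv_mem hr), S.pr_mul _ hA1 _ hq, S.pr_inv hr,
        show u⁻¹ * r * u = u * r * u⁻¹ by rw [inv_eq_of_mul_eq_one_right h2],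
        S.act_spec u hu r hr, hre, hact k hk, hqe, dc_xor hi (xor_lt hm' hk), dc_xor hm' hk]
      funext n
      simp only [Pi.add_apply]
      exact (by decide : ∀ a b c : ZMod 2, a + (c + (a + b)) + b = c) _ _ _
    have he : r * (u * q) * r⁻¹ = u * q' := by rw [hq']; group
    refine (hRi q' hq'm hp ?_).trans (IsConj.symm (isConj_iff.2 ⟨r, he⟩))
    rw [← he]
    calc r * (u * q) * r⁻¹ * (r * (u * q) * r⁻¹) = r * (u * q * (u * q)) * r⁻¹ := by group
      _ = 1 := by rw [h]; group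
  obtain ⟨g, hg, hgact⟩ := exists_rr (a := 10) (b := 18) (by norm_num) (by norm_num) rfl rfl
  have hg1 : g.1 (dc 1) = dc 1 := by rw [hgact 1 (by norm_num)]; rfl
  have hg16 : g.1 (dc 16) = dc 16 := by rw [hgact 16 (by norm_num)]; rfl
  obtain ⟨c, hc, hcw, rfl⟩ := exists_stab F g hg hg1
  have hci := (Commute.inv_left hc).eq
  have hcu : c * u * c⁻¹ * z = z * (c * u * c⁻¹) :=
    ((Commute.mul_left hc hu).mul_left (Commute.inv_left hc)).eq
  have hqc : u⁻¹ * (c * u * c⁻¹) ∈ oc z := S.act_ker _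
    (Commute.mul_left (Commute.inv_left hu) hcu).eq (by
    rw [S.act_mul (Commute.inv_left hu).eq hcu, S.act_inv hu,
      ext_oG (g := S.act (c * u * c⁻¹)) (h := S.act u) fun y => by
        rw [S.act_mul (Commute.mul_left hc hu).eq hci, S.act_mul hc hu, S.act_inv hc, oG_mul_apply,
          oG_mul_apply, hA, hA, sg_equiv _ hg1, oG_apply_inv, hg16], inv_mul_cancel])
  set qc := u⁻¹ * (c * u * c⁻¹) with hqcd
  set ic := cd (S.pr qc) with hicd
  have hice : S.pr qc = dc ic.val := (dc_cd _).symm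
  have hcue : c * u * c⁻¹ = u * qc := by rw [hqcd, mul_inv_cancel_left]
  have hic : C2 ic.val = true := (hcode qc hqc ic hice (by
    rw [← hcue]
    calc c * u * c⁻¹ * (c * u * c⁻¹) = c * (u * u) * c⁻¹ := by group
      _ = 1 := by rw [h2]; group)).1
  have hstep : ∀ q ∈ oc z, c * (u * q) * c⁻¹ = u * (qc * (c * q * c⁻¹)) := fun q _ => by
    rw [← mul_assoc u qc, ← hcue]; group
  have hinv : ∀ i : Fin 64, C2 i.val = true → lam α β i.val = qn i.val →
      lam α β (ic.val ^^^ g2n 10 18 i.val) = qn (ic.val ^^^ g2n 10 18 i.val) := by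
    intro i hi hli
    obtain ⟨q, hq, hqe⟩ := S.pr_surj (dc i.val)
    have hgl := g2n_lt (a := 10) (b := 18) (by norm_num) (by norm_num) i.isLt
    refine (hcode _ (mul_mem hqc (S.nrm hc hq)) ⟨_, xor_lt ic.isLt hgl⟩ ?_ ?_).2
    · show _ = dc (ic.val ^^^ _)
      rw [S.pr_mul _ hqc _ (S.nrm hc hq), hice, S.act_spec c hc q hq, hqe, hgact _ i.isLt,
        dc_xor ic.isLt hgl]
    · rw [← hstep q hq]
      calc c * (u * q) * c⁻¹ * (c * (u * q) * c⁻¹) = c * (u * q * (u * q)) * c⁻¹ := by group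
        _ = 1 := by
          rw [S.sq_mul hu hq (Or.inl h2) (hl q hq i hqe hi), hqe, q_dc i.isLt, hli, S.zp_sq, h2]
          group
  have hRc : ∀ i, i < 64 → R i → R (ic.val ^^^ g2n 10 18 i) := by
    intro i hi hRi q hq hqe h
    have hgl := g2n_lt (a := 10) (b := 18) (by norm_num) (by norm_num) hi
    set q' := c⁻¹ * (qc⁻¹ * q) * c with hq'
    have hm : qc⁻¹ * q ∈ oc z := mul_mem (inv_mem hqc) hq
    have hq'm : q' ∈ oc z := by
      have := S.nrm hci hm
      rwa [inv_inv] at this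
    have hp : S.pr q' = dc i := by
      refine (S.act c).1.injective ?_
      rw [← S.act_spec c hc q' hq'm, show c * q' * c⁻¹ = qc⁻¹ * q by rw [hq']; group,
        S.pr_mul _ (inv_mem hqc) _ hq, S.pr_inv hqc, hice, hqe, hgact i hi, dc_xor ic.isLt hgl,
        ← add_assoc, v_add_self, zero_add]
    have he : c * (u * q') * c⁻¹ = u * q := by
      rw [hstep q' hq'm, show c * q' * c⁻¹ = qc⁻¹ * q by rw [hq']; group, mul_inv_cancel_left]
    refine (hRi q' hq'm hp ?_).trans (isConj_iff.2 ⟨c, he⟩)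
    rw [show u * q' = c⁻¹ * (u * q) * c by rw [← he]; group]
    calc c⁻¹ * (u * q) * c * (c⁻¹ * (u * q) * c) = c⁻¹ * (u * q * (u * q)) * c := by group
      _ = 1 := by rw [h]; group
  have hR1 : R ic.val := by
    have := hRc 0 (by norm_num) hR0
    rwa [show g2n 10 18 0 = 0 from rfl, Nat.xor_zero] at this
  have hR2 : R (ic.val ^^^ g2n 10 18 ic.val) := hRc _ ic.isLt hR1
  have hu'q : u⁻¹ * u' ∈ oc z := S.act_ker _ (Commute.mul_left (Commute.inv_left hu) hu').eq (by
    rw [S.act_mul (Commute.inv_left hu).eq hu', S.act_inv hu,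
      ext_oG (g := S.act u') (h := S.act u) fun y => by rw [hA', hA], inv_mul_cancel])
  set q := u⁻¹ * u' with hqd
  have huq : u * q = u' := by rw [hqd, mul_inv_cancel_left]
  have hq2 : u * q * (u * q) = 1 := by rw [huq, h2']
  set j := cd (S.pr q) with hjd
  have hje : S.pr q = dc j.val := (dc_cd _).symm
  obtain ⟨hjC, hjl⟩ := hcode q hu'q j hje hq2
  have him : ∀ i, i < 64 → R i → ∀ m ∈ [0, 1, 16, 17], R (i ^^^ m) := by
    intro i hi hRi m hm
    simp only [List.mem_cons, List.not_mem_nil, or_false] at hm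
    rcases hm with rfl | rfl | rfl | rfl
    · rwa [Nat.xor_zero]
    · exact hRm 32 (by norm_num) i hi hRi
    · exact hRm 36 (by norm_num) i hi hRi
    · exact hRm 4 (by norm_num) i hi hRi
  have hgl := g2n_lt (a := 10) (b := 18) (by norm_num) (by norm_num) ic.isLt
  have hself : ∀ a b : ℕ, b ^^^ (a ^^^ b) = a := fun a b => by
    rw [Nat.xor_comm a b, ← Nat.xor_assoc, Nat.xor_self, Nat.zero_xor]
  have hRj : R j.val := by
    rcases cycle2 α β ic hic hinv j hjC hjl with h | h | h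
    · have := him 0 (by norm_num) hR0 _ h
      rwa [Nat.zero_xor] at this
    · have := him _ ic.isLt hR1 _ h
      rwa [hself] at this
    · have := him _ (xor_lt ic.isLt hgl) hR2 _ h
      rwa [hself] at this
  rw [← huq]
  exact hRj q hu'q hje hq2

/-- An outer involution of the second type exists. -/
theorem exists_second : ∃ u, u * z = z * u ∧ u * u = 1 ∧ ∀ y, (S.act u).1 y = sg (dc 16) y := by
  obtain ⟨x, hx, hxz, hxA⟩ := exists_sg F (v := dc 16) (by rw [Bp_dc (by norm_num) (by norm_num)]; rfl)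
  have hx2 : x * x = w := (sq_cases F hx).resolve_left (sq_nonsingular F hx hxz hxA)
  obtain ⟨r, hr, hre⟩ := S.pr_surj (dc 32)
  set y := x * r with hy
  have hyz : y * z = z * y := (Commute.mul_left hxz (S.comm hr)).eq
  have hyA : ∀ v, (S.act y).1 v = sg (dc 16) v := fun v => by
    rw [hy, S.act_mul hxz (S.comm hr), S.act_inner hr, mul_one, hxA]
  have hy2 : y * y = 1 ∨ y * y = z := by
    have e : y * y = x * r * x⁻¹ * (w * r) := by rw [← hx2, hy]; group
    rw [e]
    refine S.pr_ker _ (mul_mem (S.nrm hxz hr) (mul_mem F.mem hr)) ?_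
    rw [S.pr_mul _ (S.nrm hxz hr) _ (mul_mem F.mem hr), S.pr_mul _ F.mem _ hr,
      S.act_spec x hxz r hr, hre, F.pr_eq, hxA, sg_dc (by norm_num) (by norm_num),
      ← dc_xor (by norm_num) (by norm_num),
      ← dc_xor (sgn_lt (by norm_num) (by norm_num)) (xor_lt (by norm_num) (by norm_num)), ← dc_zero]
    congr 1
  rcases hy2 with hy2 | hy2
  · exact ⟨y, hyz, hy2, hyA⟩
  by_contra hcon
  push Not at hcon
  have key : ∀ a ∈ oc z, ∀ i : Fin 64, S.pr a = dc i.val → C2 i.val = true →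
      y * a * y⁻¹ * a⁻¹ = zp z (qM 2 (S.pr a)) := by
    intro a ha i hi hC
    obtain ⟨e, he⟩ := S.com_zp hyz ha (by
      rw [hi, hyA, sg_dc (by norm_num) i.isLt, (fix2 i).2 hC])
    rw [he]
    congr 1
    refine by_contra fun hne => ?_
    have hsq : y * a * (y * a) = 1 := by
      rw [S.sq_mul hyz ha (Or.inr hy2) he, hy2, ← zp_add S.zz,
        (by decide : ∀ a b : ZMod 2, a ≠ b → a + b = 1) _ _ hne, zp_one, S.zz]
    obtain ⟨v, hv⟩ := hcon (y * a) (Commute.mul_left hyz (S.comm ha)).eq hsq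
    exact hv (by rw [S.act_mul hyz (S.comm ha), S.act_inner ha, mul_one, hyA])
  obtain ⟨v, v', hv, hv', hB⟩ := exists_noncomm2
  obtain ⟨a, ha, hae⟩ := S.pr_surj (dc v.val)
  obtain ⟨b, hb, hbe⟩ := S.pr_surj (dc v'.val)
  have hab := key (a * b) (mul_mem ha hb) ⟨v.val ^^^ v'.val, xor_lt v.isLt v'.isLt⟩
    (by rw [S.pr_mul _ ha _ hb, hae, hbe, ← dc_xor v.isLt v'.isLt]) (C2_xor v v' hv hv')
  rw [S.com_mul ha (key a ha v hae hv) (key b hb v' hbe hv')] at hab
  have h := zp_inj S.zne hab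
  rw [S.pr_mul _ ha _ hb] at h
  have h1 : Bp (S.pr a) (S.pr b) = 0 := by
    show polar (qM 2) (S.pr a) (S.pr b) = 0
    rw [polar, ← h]
    ring
  rw [hae, hbe, Bp_dc v.isLt v'.isLt, hB] at h1
  exact absurd h1 (by decide)

omit F in
/-- The centraliser in `oc z` of an outer involution has order at least 16. -/
theorem sixteen_le {t : G} (ht : t * z = z * t) (h2 : t * t = 1) (hn : t ∉ oc z) :
    16 ≤ Nat.card ↥(oc z ⊓ Subgroup.centralizer ({t} : Set G)) := by
  classical
  obtain ⟨c, hc, hcase⟩ := S.classify ht h2 hn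
  have hci := (Commute.inv_left hc).eq
  let f : ↥(oc z) →* Multiplicative V := MonoidHom.mk'
    (fun q => Multiplicative.ofAdd ((S.act t).1 (S.pr q) + S.pr q)) fun p q => by
      refine (congrArg Multiplicative.ofAdd ?_).trans (ofAdd_add _ _)
      rw [Subgroup.coe_mul, S.pr_mul p p.2 q q.2, map_add]
      abel
  have hrange : ∃ l : List ℕ, l.length ≤ 4 ∧ ∀ x : V, ∃ i ∈ l, (S.act c).1 ((S.act t).1 x + x) = dc i := by
    have key : ∀ x, ((S.act c).1 ((S.act t).1 x + x)) =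
        (S.act (c * t * c⁻¹)).1 ((S.act c).1 x) + (S.act c).1 x := fun x => by
      rw [map_add, S.act_mul (Commute.mul_left hc ht).eq hci, S.act_mul hc ht, S.act_inv hc,
        oG_mul_apply, oG_mul_apply, oG_inv_apply]
    rcases hcase with h | h
    · refine ⟨[0, 1, 2, 3], le_rfl, fun x => ⟨_, range1 (cd ((S.act c).1 x)), ?_⟩⟩
      rw [key, h, dc_xor (sgn_lt (by norm_num) (cd _).isLt) (cd _).isLt,
        ← sg_dc (by norm_num) (cd _).isLt, dc_cd]
    · refine ⟨[0, 1, 16, 17], le_rfl, fun x => ⟨_, range2 (cd ((S.act c).1 x)), ?_⟩⟩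
      rw [key, h, dc_xor (sgn_lt (by norm_num) (cd _).isLt) (cd _).isLt,
        ← sg_dc (by norm_num) (cd _).isLt, dc_cd]
  obtain ⟨l, hl, hlx⟩ := hrange
  have hfr : Nat.card f.range ≤ 4 := by
    have : Fintype f.range := Fintype.ofFinite _
    let img : f.range → V := fun y => (S.act c).1 y.1.toAdd
    have hinj : Function.Injective img := fun a b h =>
      Subtype.ext (Multiplicative.toAdd.injective ((S.act c).1.injective h))
    rw [Nat.card_eq_fintype_card, ← Finset.card_univ]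
    refine (Finset.card_le_card_of_injOn img (t := (l.map dc).toFinset) (fun y _ => ?_)
      hinj.injOn).trans ((List.toFinset_card_le _).trans (by rw [List.length_map]; exact hl))
    obtain ⟨q, hq⟩ := y.2
    obtain ⟨i, hi, he⟩ := hlx (S.pr q.1)
    refine List.mem_toFinset.2 (List.mem_map.2 ⟨i, hi, ?_⟩)
    rw [← he]
    show (S.act c).1 _ = (S.act c).1 y.1.toAdd
    rw [← hq]
    rfl
  have hk1 := f.ker.card_mul_index
  rw [Subgroup.index_ker, S.card] at hk1
  have hk32 : 32 ≤ Nat.card f.ker := by nlinarith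
  have hfix : ∀ q : f.ker, (S.act t).1 (S.pr q.1.1) = S.pr q.1.1 := fun q =>
    v_eq_of_add (Multiplicative.ofAdd.injective (MonoidHom.mem_ker.1 q.2))
  let g : f.ker →* G := MonoidHom.mk' (fun q => t * q.1.1 * t⁻¹ * q.1.1⁻¹) fun p q => by
    obtain ⟨e, he⟩ := S.com_zp ht p.1.2 (hfix p)
    obtain ⟨e', he'⟩ := S.com_zp ht q.1.2 (hfix q)
    show t * ((p.1.1 : G) * q.1.1) * t⁻¹ * ((p.1.1 : G) * q.1.1)⁻¹ = _
    rw [S.com_mul p.1.2 he he', zp_add S.zz, he, he']
  have hgr : Nat.card g.range ≤ 2 := by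
    have : Fintype g.range := Fintype.ofFinite _
    rw [Nat.card_eq_fintype_card, ← Finset.card_univ]
    refine (Finset.card_le_card_of_injOn (fun y : g.range => (y : G)) (t := {1, z}) (fun y _ => ?_)
      Subtype.coe_injective.injOn).trans Finset.card_le_two
    obtain ⟨q, hq⟩ := y.2
    obtain ⟨e, he⟩ := S.com_zp ht q.1.2 (hfix q)
    show (y : G) ∈ ({1, z} : Finset G)
    rw [← hq, show g q = zp z e from he]
    rcases zmod_cases e with rfl | rfl <;> simp [zp_zero, zp_one]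
  have hk2 := g.ker.card_mul_index
  rw [Subgroup.index_ker] at hk2
  have hk16 : 16 ≤ Nat.card g.ker := by nlinarith
  refine hk16.trans (Nat.card_le_card_of_injective (fun q : g.ker =>
    (⟨q.1.1.1, q.1.1.2, Subgroup.mem_centralizer_singleton_iff.2
      (mul_inv_eq_iff_eq_mul.1 (mul_inv_eq_one.1 (MonoidHom.mem_ker.1 q.2))).symm⟩ :
      ↥(oc z ⊓ Subgroup.centralizer ({t} : Set G)))) fun a b h => ?_)
  exact Subtype.ext (Subtype.ext (Subtype.ext (congrArg (fun x : ↥(oc z ⊓ _) => (x : G)) h)))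

/-- The second class is not that of `z`. -/
theorem not_conj {u : G} (hu : u * z = z * u) (h2 : u * u = 1)
    (hA : ∀ y, (S.act u).1 y = sg (dc 16) y) : ¬ IsConj z u := by
  intro hconj
  obtain ⟨g, hg⟩ := isConj_iff.1 hconj
  have Su : Setting u := hg ▸ S.sett.conj g
  obtain ⟨α, β, hl⟩ := (exists_lam F hu (Or.inl h2) hA).resolve_left (fun e => S.zne (e.symm.trans h2))
  have hnQ : u ∉ oc z := fun h => by
    have e := hA (dc 32)
    rw [S.act_inner h, oG_one_apply, sg_dc (by norm_num) (by norm_num)] at e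
    exact absurd (dc_inj (by norm_num) (sgn_lt (by norm_num) (by norm_num)) e) (by decide +kernel)
  have hzu : z ∉ oc u := fun h => hnQ (by
    have := (hg ▸ S.sett.conj g).symm (z := u) (g := g⁻¹) (by
      rw [show g⁻¹ * u * g⁻¹⁻¹ = z by rw [← hg]; group]; exact h)
    rwa [show g⁻¹ * u * g⁻¹⁻¹ = z by rw [← hg]; group] at this)
  have hfr : ∀ {w'}, S.Fr w' → w' ∉ oc u := by
    intro w' F' h
    obtain ⟨g', hg'⟩ := F'.conj
    have he : g' * g⁻¹ * u * (g' * g⁻¹)⁻¹ = w' := by rw [← hg, ← hg']; group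
    have hu' : u ∈ oc w' := by
      have := Su.symm (g := g' * g⁻¹) (by rw [he]; exact h)
      rwa [he] at this
    exact sq_nonsingular F' hu' hu hA h2
  have hact : ∀ i, i < 64 → (S.act u).1 (dc i) = dc (sgn 16 i) := fun i hi => by
    rw [hA, sg_dc (by norm_num) hi]
  have hD : ∀ a ∈ oc z, a * u = u * a → C2 (cd (S.pr a)).val = true ∧ lam α β (cd (S.pr a)).val = false := by
    intro a ha hc
    have hcj : u * a * u⁻¹ = a := by rw [← hc, mul_inv_cancel_right]
    have hC : C2 (cd (S.pr a)).val = true := by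
      refine (fix2 _).1 (dc_inj (sgn_lt (by norm_num) (cd _).isLt) (cd _).isLt ?_)
      rw [← hact _ (cd _).isLt, dc_cd, ← S.act_spec u hu a ha, hcj]
    refine ⟨hC, ?_⟩
    have h := hl a ha _ (dc_cd _).symm hC
    rw [hcj, mul_inv_cancel] at h
    exact (bz_eq_zero _).1 (zp_inj S.zne (h.symm.trans (zp_zero z).symm))
  have hD' : ∀ i : Fin 64, C2 i.val = true → lam α β i.val = false →
      ∃ a ∈ oc z, S.pr a = dc i.val ∧ a * u = u * a := by
    intro i hi hli
    obtain ⟨a, ha, hae⟩ := S.pr_surj (dc i.val)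
    refine ⟨a, ha, hae, ?_⟩
    have h := hl a ha i hae hi
    rw [hli, show bz false = 0 from rfl, zp_zero, mul_inv_eq_one, mul_inv_eq_iff_eq_mul] at h
    exact h.symm
  have hinter : ∀ k ∈ oc z, k ∈ oc u → k = 1 := by
    intro k hk hk'
    have hku : k * u = u * k := (Su.comm_z hk').eq
    obtain ⟨hC, hlk⟩ := hD k hk hku
    rcases lam_noncentral α β _ hC hlk fun d hd hld => by
        obtain ⟨a, ha, hae, hau⟩ := hD' d hd hld
        have hmem : a * k * a⁻¹ * k⁻¹ ∈ oc u :=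
          mul_mem (oc_conj_mem (Subgroup.mem_centralizer_singleton_iff.2 hau) hk') (inv_mem hk')
        rcases S.sett.commutator_cases ha hk with e | e
        · have h := (S.commute_iff ha hk).1 (commutatorElement_eq_one_iff_mul_comm.1 e)
          rw [hae, ← dc_cd (S.pr k), Bp_dc d.isLt (cd _).isLt, bz_eq_zero] at h
          exact ((by decide +kernel : ∀ i j : Fin 64, Bn i.val j.val = Bn j.val i.val) _ d).trans h
        · exact absurd (e ▸ hmem) hzu
      with h | h
    · rcases S.pr_ker k hk (by rw [← dc_cd (S.pr k), h, dc_zero]) with e | e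
      · exact e
      · exact absurd (e ▸ hk') hzu
    · rcases S.pr_eq F.mem hk (by rw [F.pr_eq, ← dc_cd (S.pr k), h]) with e | e
      · exact absurd (e ▸ hk') (hfr F)
      · exact absurd (e ▸ hk') (hfr (Fr_mul_z F))
  set R : Subgroup G := oc u ⊓ Subgroup.centralizer ({z} : Set G)
  have hrz : ∀ r : R, r.1 * z = z * r.1 := fun r => Subgroup.mem_centralizer_singleton_iff.1 r.2.2
  obtain ⟨A, hAd⟩ : ∃ A : O, A = S.act u := ⟨_, rfl⟩
  have hle : Nat.card R ≤ 8 := by
    refine card_le_eight α β (fun r : R => S.act r.1) ?_ ?_ ?_ A fun v hv => by rw [hAd, hact v hv]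
    · intro r r' h
      refine Subtype.ext (inv_mul_eq_one.1 (hinter _ ?_ (mul_mem (inv_mem r.2.1) r'.2.1)))
      refine S.act_ker _ (Commute.mul_left (Commute.inv_left (hrz r)) (hrz r')).eq ?_
      rw [S.act_mul (Commute.inv_left (hrz r)).eq (hrz r'), S.act_inv (hrz r),
        show S.act r.1 = S.act r'.1 from h, inv_mul_cancel]
    · intro r k hk
      obtain ⟨hk64, hkC, hkl⟩ := lamBasis_spec α β k hk
      obtain ⟨a, ha, hae, hau⟩ := hD' ⟨k, hk64⟩ hkC hkl
      have hm1 : r.1 * a * r.1⁻¹ * a⁻¹ ∈ oc z := mul_mem (S.nrm (hrz r) ha) (inv_mem ha)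
      have hm2 : r.1 * a * r.1⁻¹ * a⁻¹ ∈ oc u := by
        rw [show r.1 * a * r.1⁻¹ * a⁻¹ = r.1 * (a * r.1⁻¹ * a⁻¹) by group]
        exact mul_mem r.2.1 (oc_conj_mem (Subgroup.mem_centralizer_singleton_iff.2 hau) (inv_mem r.2.1))
      have e := hinter _ hm1 hm2
      show (S.act r.1).1 (dc k) = dc k
      rw [← show S.pr a = dc k from hae, ← S.act_spec _ (hrz r) a ha, mul_inv_eq_one.1 e]
    · intro r A' hA' x
      have hru : r.1 * u = u * r.1 := (Su.comm_z r.2.1).eq
      have hAA : A' = S.act u := ext_oG fun y => by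
        rw [← dc_cd y, hA' _ (cd y).isLt, hact _ (cd y).isLt]
      show (S.act r.1).1 (A'.1 x) = A'.1 ((S.act r.1).1 x)
      rw [hAA, ← oG_mul_apply, ← oG_mul_apply, ← S.act_mul (hrz r) hu, hru, S.act_mul hu (hrz r)]
  have hgt : 16 ≤ Nat.card R := by
    have ht2 : g⁻¹ * z * g * (g⁻¹ * z * g) = 1 := by
      calc g⁻¹ * z * g * (g⁻¹ * z * g) = g⁻¹ * (z * z) * g := by group
        _ = 1 := by rw [S.zz]; group
    have htz : g⁻¹ * z * g * z = z * (g⁻¹ * z * g) := by
      calc g⁻¹ * z * g * z = g⁻¹ * (z * (g * z * g⁻¹)) * g := by group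
        _ = g⁻¹ * (z * u) * g := by rw [hg]
        _ = g⁻¹ * (u * z) * g := by rw [hu]
        _ = z * (g⁻¹ * z * g) := by rw [← hg]; group
    have htn : g⁻¹ * z * g ∉ oc z := fun h => hzu (by
      have := conj_mem_oc (g := g) h
      rwa [hg, show g * (g⁻¹ * z * g) * g⁻¹ = z by group] at this)
    refine (S.sixteen_le htz ht2 htn).trans (Nat.card_le_card_of_injective
      (fun q : ↥(oc z ⊓ Subgroup.centralizer ({g⁻¹ * z * g} : Set G)) =>
        (⟨g * q.1 * g⁻¹, hg ▸ conj_mem_oc q.2.1, Subgroup.mem_centralizer_singleton_iff.2 ?_⟩ : R))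
      fun a b h => Subtype.ext (mul_left_cancel (mul_right_cancel (congrArg Subtype.val h))))
    calc g * q.1 * g⁻¹ * z = g * (q.1 * (g⁻¹ * z * g)) * g⁻¹ := by group
      _ = z * (g * q.1 * g⁻¹) := by
        rw [Subgroup.mem_centralizer_singleton_iff.1 q.2.2]; group
  omega

omit F in
/-- Every involution of the group has a conjugate centralising `z`. -/
theorem exists_conj_comm {x : G} (hx : orderOf x = 2) : ∃ g : G, g * x * g⁻¹ * z = z * (g * x * g⁻¹) := by
  haveI : Fact (Nat.Prime 2) := ⟨Nat.prime_two⟩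
  let C := Subgroup.centralizer ({z} : Set G)
  obtain ⟨P⟩ : Nonempty (Sylow 2 ↥C) := inferInstance
  set P' : Subgroup G := (P : Subgroup ↥C).map C.subtype with hP'
  have hQP : oc z ≤ P' := by
    haveI : ((oc z).subgroupOf C).Normal :=
      ⟨fun a ha h => oc_conj_mem (x := z) h.2 ha⟩
    have hp : IsPGroup 2 ↥((oc z).subgroupOf C) :=
      IsPGroup.comap_of_injective (oc_isPGroup z) C.subtype C.subtype_injective
    intro a ha
    exact ⟨⟨a, oc_le z ha⟩, (Core.le_pCore hp).trans (Core.pCore_le_sylow P) ha, rfl⟩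
  obtain ⟨T, hT⟩ := (P.isPGroup'.map C.subtype).exists_le_sylow
  have hTC : (T : Subgroup G) ≤ C := by
    have : Group.IsNilpotent ↥(T : Subgroup G) := T.isPGroup'.isNilpotent
    by_contra hnle
    set K := P'.subgroupOf (T : Subgroup G)
    have hK : K ≠ ⊤ := fun h => hnle fun a ha => by
      have : (⟨a, ha⟩ : ↥(T : Subgroup G)) ∈ K := h ▸ Subgroup.mem_top _
      obtain ⟨b, -, hb⟩ := this
      exact (show (b : G) = a from hb) ▸ b.2
    have hlt := normalizerCondition_of_isNilpotent K hK.lt_top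
    obtain ⟨y, hy, hyK⟩ := SetLike.exists_of_lt hlt
    have hyz : (y : G) * z = z * y := by
      have hzP : z ∈ P' := hQP S.zmem
      have hcent : ∀ p ∈ P', p * ((y : G) * z * (y : G)⁻¹) = (y : G) * z * (y : G)⁻¹ * p := by
        intro p hp
        have hq : (⟨(y : G)⁻¹ * p * y, mul_mem (mul_mem (inv_mem y.2) (hT hp)) y.2⟩ :
            ↥(T : Subgroup G)) ∈ K := by
          have := (Subgroup.mem_normalizer_iff.1 (inv_mem hy) ⟨p, hT hp⟩).1 hp
          rw [inv_inv] at this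
          exact this
        have hq' : (y : G)⁻¹ * p * y ∈ C := by
          obtain ⟨b, -, hb⟩ := hq
          have e : (b : G) = (y : G)⁻¹ * p * y := hb
          exact e ▸ b.2
        have := Subgroup.mem_centralizer_singleton_iff.1 hq'
        calc p * ((y : G) * z * (y : G)⁻¹) = (y : G) * ((y : G)⁻¹ * p * y * z) * (y : G)⁻¹ := by group
          _ = (y : G) * z * (y : G)⁻¹ * p := by rw [this]; group
      have hmem : (y : G) * z * (y : G)⁻¹ ∈ oc z := S.sett.cent
        (Subgroup.mem_centralizer_iff.2 fun q hq => hcent q (hQP hq))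
      rcases S.sett.center_cases hmem (fun q hq => hcent q (hQP hq)) with e | e
      · exact absurd (conj_eq_one_iff.1 e) S.zne
      · exact mul_inv_eq_iff_eq_mul.1 e
    have hyC : (y : G) ∈ C := Subgroup.mem_centralizer_singleton_iff.2 hyz
    refine hyK ?_
    have hmax : ((T : Subgroup G).subgroupOf C) = (P : Subgroup ↥C) := by
      refine P.is_maximal' (IsPGroup.comap_of_injective T.isPGroup' C.subtype C.subtype_injective)
        fun p hp => ?_
      exact hT ⟨p, hp, rfl⟩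
    exact ⟨⟨y, hyC⟩, hmax ▸ (show (y : G) ∈ (T : Subgroup G) from y.2), rfl⟩
  obtain ⟨T', hT'⟩ := (show IsPGroup 2 ↥(Subgroup.zpowers x) from
    IsPGroup.of_card (n := 1) (by rw [Nat.card_zpowers, hx, pow_one])).exists_le_sylow
  obtain ⟨g, hg⟩ := MulAction.exists_smul_eq G T' T
  refine ⟨g, Subgroup.mem_centralizer_singleton_iff.1 (hTC ?_)⟩
  have : g * x * g⁻¹ ∈ (g • T' : Sylow 2 G) := by
    rw [Sylow.smul_def]
    exact ⟨x, hT' (Subgroup.mem_zpowers x), rfl⟩
  rwa [hg] at this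

omit F in
/-- Exactly two classes of involutions. -/
theorem two_classes : ∃ a b : G, orderOf a = 2 ∧ orderOf b = 2 ∧ ¬ IsConj a b ∧
    ∀ x : G, orderOf x = 2 → IsConj x a ∨ IsConj x b := by
  obtain ⟨w, F⟩ := S.exists_fr
  obtain ⟨u, hu, hu2, huA⟩ := exists_second F
  have hu1 : u ≠ 1 := fun e => not_conj F hu hu2 huA |>.elim (by
    exfalso
    have h := huA (dc 32)
    rw [e, S.act_one, oG_one_apply, sg_dc (by norm_num) (by norm_num)] at h
    exact absurd (dc_inj (by norm_num) (sgn_lt (by norm_num) (by norm_num)) h) (by decide +kernel))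
  refine ⟨z, u, S.sett.ord, orderOf_eq_prime (by rw [pow_two, hu2]) hu1, not_conj F hu hu2 huA, fun x hx => ?_⟩
  obtain ⟨g, hg⟩ := exists_conj_comm (S := S) hx
  set t := g * x * g⁻¹ with ht
  have hxt : IsConj x t := isConj_iff.2 ⟨g, rfl⟩
  have hx2 : x * x = 1 := by rw [← pow_two, ← hx, pow_orderOf_eq_one]
  have ht2 : t * t = 1 := by
    calc t * t = g * (x * x) * g⁻¹ := by rw [ht]; group
      _ = 1 := by rw [hx2]; group
  have ht1 : t ≠ 1 := fun e => by
    rw [conj_eq_one_iff.1 e, orderOf_one] at hx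
    exact absurd hx (by norm_num)
  by_cases htQ : t ∈ oc z
  · refine Or.inl (hxt.trans ?_)
    by_cases htz : t = z
    · rw [htz]
    refine (S.conj_of_singular htQ (fun e => ?_) (zp_inj S.zne ?_)).symm
    · rcases S.pr_ker t htQ e with h | h
      exacts [ht1 h, htz h]
    · rw [← S.pr_sq t htQ, ht2, zp_zero]
  obtain ⟨c, hc, hcase⟩ := S.classify hg ht2 htQ
  set t' := c * t * c⁻¹ with ht'
  have htt : IsConj x t' := hxt.trans (isConj_iff.2 ⟨c, rfl⟩)
  have ht'2 : t' * t' = 1 := by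
    calc t' * t' = c * (t * t) * c⁻¹ := by rw [ht']; group
      _ = 1 := by rw [ht2]; group
  have ht'z : t' * z = z * t' := ((Commute.mul_left hc hg).mul_left (Commute.inv_left hc)).eq
  rcases hcase with h | h
  · exact Or.inl (htt.trans (conj_first F ht'z ht'2 h).symm)
  · exact Or.inr (htt.trans (conj_second F hu hu2 huA ht'z ht'2 h).symm)

end Suz

end Cfsg.Agent.SuzType
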